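import Cfsg.Agent.H380.UF.Gu
import Cfsg.Agent.LieClassical.KleinSix

/-!
# Orders of the automorphisms `x ↦ A x̄ A⁻¹` of `PSU₄(5)` (helper380)
-/

set_option autoImplicit false

namespace Cfsg.Agent.H380.UF

open Matrix Cfsg.Agent.H422.Recur Cfsg.Agent.ClassicalGeometry.PSUAutCount
open Cfsg.Agent.Schreier.PSU (f₁ f₂ mapGU conj_field f₁_eq_conj toAut_eq)
open Cfsg.Agent.LieClassical.KleinSix

section mat

variable {X : M4} (hX : Xᵀ * X.map cj = 1)

theorem map_map_cj (X : M4) : (X.map cj).map cj = X := by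
  refine Matrix.ext fun i j => ?_
  exact cj_cj _

include hX

theorem unit2 : X.map cj * Xᵀ = 1 := mul_eq_one_comm.1 hX

theorem unit3 : (X.map cj)ᵀ * X = 1 := by
  have := congrArg Matrix.transpose hX
  rwa [Matrix.transpose_mul, Matrix.transpose_transpose, Matrix.transpose_one] at this

theorem unit4 : X * (X.map cj)ᵀ = 1 := mul_eq_one_comm.1 (unit3 hX)

theorem det_norm : X.det * cj X.det = 1 := by
  have h := congrArg Matrix.det hX
  rw [det_mul, det_transpose, det_one] at h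
  rwa [RingHom.map_det]

/-- the characteristic polynomial of `X X̄` is palindromic over the prime field -/
theorem charpoly_sq : ∃ a b : Fin 5, (X * X.map cj).charpoly.coeff 3 = cst a ∧
    (X * X.map cj).charpoly.coeff 2 = cst b ∧ (X * X.map cj).charpoly.coeff 1 = cst a ∧
    (X * X.map cj).det = 1 := by
  set M := X * X.map cj with hM
  have hd : M.det = 1 := by
    rw [hM, det_mul]
    have := det_norm hX
    rwa [RingHom.map_det] at this
  have h1 : M.charpoly.map cj = M.charpoly := by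
    rw [← Matrix.charpoly_map, hM, Matrix.map_mul, map_map_cj, Matrix.charpoly_mul_comm]
  have h2 : (X.map cj * X)ᵀ * M = 1 := by
    rw [Matrix.transpose_mul, hM, ← Matrix.mul_assoc, Matrix.mul_assoc Xᵀ, unit3 hX, Matrix.mul_one, hX]
  have h3 := coeff_inv M _ h2 hd
  rw [Matrix.charpoly_transpose, Matrix.charpoly_mul_comm] at h3
  have e1 := h3 1 (by norm_num)
  norm_num at e1
  have h4 : ∀ i, cj (M.charpoly.coeff i) = M.charpoly.coeff i := by
    intro i
    conv_rhs => rw [← h1, Polynomial.coeff_map]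
  refine ⟨(M.charpoly.coeff 3).re, (M.charpoly.coeff 2).re, eq_cst _ (h4 3), eq_cst _ (h4 2), ?_, hd⟩
  rw [← eq_cst _ (h4 3)]
  exact e1

end mat

theorem check2 : ∀ a b : Fin 5,
    ∃ k ∈ [12, 13, 20, 30], (co4 (-cst a) (-cst b) (-cst a) (-1) k).1 = 0 ∧
      (co4 (-cst a) (-cst b) (-cst a) (-1) k).2.1 = 0 ∧
      (co4 (-cst a) (-cst b) (-cst a) (-1) k).2.2.1 = 0 := by
  decide +kernel

theorem check1 : ∀ a b r : Fin 5, cst r * cst r = 1 + cst a + cst b + cst a + 1 →
    (a = 3 ∧ b = 2) ∨ ∃ k ∈ [12, 13, 30], (co4 (-cst a) (-cst b) (-cst a) (-1) k).1 = 0 ∧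
      (co4 (-cst a) (-cst b) (-cst a) (-1) k).2.1 = 0 ∧
      (co4 (-cst a) (-cst b) (-cst a) (-1) k).2.2.1 = 0 := by
  decide +kernel

/-- powers of `X X̄`, general case -/
theorem pow_gen {X : M4} (hX : Xᵀ * X.map cj = 1) :
    ∃ k ∈ [12, 13, 20, 30], ∃ r : FQ, (X * X.map cj) ^ k = r • (1 : M4) := by
  obtain ⟨a, b, h3, h2, h1, hd⟩ := charpoly_sq hX
  have h4 := ch4 (X * X.map cj)
  rw [h3, h2, h1, hd] at h4
  obtain ⟨k, hk, a1, a2, a3⟩ := check2 a b
  exact ⟨k, hk, scalar_co4 h4 a1 a2 a3⟩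

/-- the coordinates of `X - Xᵀ` -/
theorem sk_unsk_sub (X : M4) : sk (unsk (X - Xᵀ)) = X - Xᵀ := by
  apply sk_unsk
  · intro i
    simp
  · intro i j
    simp

theorem map_sub_transpose (X : M4) : (X - Xᵀ).map cj = X.map cj - (X.map cj)ᵀ := by
  refine Matrix.ext fun i j => ?_
  simp

theorem pf_map (v : Fin 3 ⊕ Fin 3 → FQ) : pf (fun i => cj (v i)) = cj (pf v) := by
  simp [pf]

theorem unsk_map (X : M4) : unsk (X.map cj) = fun i => cj (unsk X i) := by
  funext i
  rcases i with i | i <;> fin_cases i <;> simp [unsk]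

theorem conj_alt {X : M4} (hX : Xᵀ * X.map cj = 1) : X * (X - Xᵀ).map cj * Xᵀ = X - Xᵀ := by
  rw [map_sub_transpose, Matrix.mul_sub, Matrix.sub_mul, Matrix.mul_assoc, unit2 hX, Matrix.mul_one, unit4 hX,
    Matrix.one_mul]

/-- the Pfaffian of `X - Xᵀ` is real for `det X = 1` -/
theorem pf_real {X : M4} (hX : Xᵀ * X.map cj = 1) (hd : X.det = 1) :
    ∃ r : Fin 5, pf (unsk (X - Xᵀ)) = cst r := by
  have h1 : act X (unsk ((X - Xᵀ).map cj)) = unsk (X - Xᵀ) := by
    unfold act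
    rw [map_sub_transpose, sk_unsk_sub, ← map_sub_transpose, conj_alt hX]
  have h2 := pf_act X (unsk ((X - Xᵀ).map cj))
  rw [h1, hd, one_mul, unsk_map, pf_map] at h2
  exact ⟨_, eq_cst _ h2.symm⟩

theorem sub_eq_mul {X : M4} (hX : Xᵀ * X.map cj = 1) : (X * X.map cj - 1) * Xᵀ = X - Xᵀ := by
  rw [Matrix.sub_mul, Matrix.mul_assoc, unit2 hX, Matrix.mul_one, Matrix.one_mul]

/-- `p(1)` is the square of the Pfaffian -/
theorem eval_one {X : M4} (hX : Xᵀ * X.map cj = 1) (hd : X.det = 1) :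
    pf (unsk (X - Xᵀ)) ^ 2 = (X * X.map cj).charpoly.eval 1 := by
  rw [← det_sk, sk_unsk_sub, ← sub_eq_mul hX, det_mul, det_transpose, hd, mul_one, Matrix.eval_charpoly, map_one,
    ← neg_sub, det_neg, Fintype.card_fin]
  norm_num

theorem eval_one' (M : M4) : M.charpoly.eval 1 = M.det + M.charpoly.coeff 1 + M.charpoly.coeff 2 +
    M.charpoly.coeff 3 + 1 := by
  have h4 : M.charpoly.coeff 4 = 1 := by
    have := M.charpoly_monic.coeff_natDegree
    rwa [Matrix.charpoly_natDegree_eq_dim, Fintype.card_fin] at this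
  have h0 : M.charpoly.coeff 0 = M.det := by
    rw [Matrix.det_eq_sign_charpoly_coeff, Fintype.card_fin]
    norm_num
  rw [Polynomial.eval_eq_sum_range, Matrix.charpoly_natDegree_eq_dim, Fintype.card_fin,
    Finset.sum_range_succ, Finset.sum_range_succ, Finset.sum_range_succ, Finset.sum_range_succ,
    Finset.sum_range_one, h4, h0]
  simp

/-- the identity for alternating matrices with Pfaffian zero -/
theorem alt_identity (K Y : M4) (h0 : ∀ i, K i i = 0) (hs : ∀ i j, K j i = - K i j)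
    (h : K 0 1 * K 2 3 - K 0 2 * K 1 3 + K 0 3 * K 1 2 = 0) :
    K * Y * K = K * Yᵀ * K + (K * Y).trace • K := by
  have e10 := hs 0 1
  have e20 := hs 0 2
  have e30 := hs 0 3
  have e21 := hs 1 2
  have e31 := hs 1 3
  have e32 := hs 2 3
  have d0 := h0 0
  have d1 := h0 1
  have d2 := h0 2
  have d3 := h0 3
  clear hs h0
  refine Matrix.ext fun i j => ?_
  simp only [Matrix.mul_apply, Fin.sum_univ_four, Matrix.add_apply, Matrix.smul_apply, Matrix.transpose_apply,
    Matrix.trace, Matrix.diag_apply, smul_eq_mul]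
  fin_cases i <;> fin_cases j <;>
    simp only [Fin.zero_eta, Fin.mk_one, Fin.reduceFinMk, e10, e20, e30, e21, e31, e32, d0, d1, d2, d3] <;>
    first
      | ring1
      | linear_combination (Y 0 1 - Y 1 0) * h
      | linear_combination (Y 1 0 - Y 0 1) * h
      | linear_combination (Y 0 2 - Y 2 0) * h
      | linear_combination (Y 2 0 - Y 0 2) * h
      | linear_combination (Y 0 3 - Y 3 0) * h
      | linear_combination (Y 3 0 - Y 0 3) * h
      | linear_combination (Y 1 2 - Y 2 1) * h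
      | linear_combination (Y 2 1 - Y 1 2) * h
      | linear_combination (Y 1 3 - Y 3 1) * h
      | linear_combination (Y 3 1 - Y 1 3) * h
      | linear_combination (Y 2 3 - Y 3 2) * h
      | linear_combination (Y 3 2 - Y 2 3) * h

/-- the exceptional characteristic polynomial `(x - 1)² (x² + 1)` -/
theorem pow_four_of_pf {X : M4} (hX : Xᵀ * X.map cj = 1) (hp : pf (unsk (X - Xᵀ)) = 0)
    (ht : (X * X.map cj).trace = 2) : (X * X.map cj) ^ 4 = 1 := by
  set K := X - Xᵀ with hK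
  set Y := X.map cj with hY
  set M := X * Y with hM
  have hKY : K * Y = M - 1 := by
    rw [hK, Matrix.sub_mul, hX]
  have hXt : Y * Xᵀ = 1 := unit2 hX
  have hYX : Yᵀ * X = 1 := unit3 hX
  have hXY : X * Yᵀ = 1 := unit4 hX
  have h1 := alt_identity K Y (by intro i; simp [hK]) (by intro i j; simp [hK]) (by
    simp only [pf, unsk, Sum.elim_inl, Sum.elim_inr, Matrix.cons_val_zero, Matrix.cons_val_one, Matrix.cons_val] at hp
    linear_combination hp)
  -- `M Xᵀ Yᵀ = 1`
  have hinv : M * (Xᵀ * Yᵀ) = 1 := by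
    rw [hM, Matrix.mul_assoc, ← Matrix.mul_assoc Y, hXt, Matrix.one_mul, hXY]
  have hKYt : K * Yᵀ = 1 - Xᵀ * Yᵀ := by
    rw [hK, Matrix.sub_mul, hXY]
  have htr : (K * Y).trace = -2 := by
    rw [hKY, Matrix.trace_sub, ht, Matrix.trace_one, Fintype.card_fin]
    decide +kernel
  rw [htr, hKY, hKYt] at h1
  have h2 : (M * (M - 1)) * K = (M * 1 - M * (Xᵀ * Yᵀ)) * K + (-2 : FQ) • (M * K) := by
    have := congrArg (fun Z => M * Z) h1
    simp only [Matrix.mul_add, ← Matrix.mul_assoc, Matrix.mul_smul, Matrix.mul_sub] at this ⊢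
    exact this
  rw [hinv] at h2
  have h3 := congrArg (fun Z => Z * Y) h2
  simp only [Matrix.add_mul, Matrix.smul_mul, Matrix.mul_assoc, hKY] at h3
  have h4 : (M ^ 2 + 1) * (M - 1) = 0 := by
    have h5 : (M ^ 2 + 1) * (M - 1) = (M * ((M - 1) * (M - 1)) - ((M * 1 - 1) * (M - 1) + (-2 : FQ) • (M * (M - 1)))) := by
      rw [neg_smul, two_smul]
      noncomm_ring
    rw [h5, h3]
    simp
  have h6 : M ^ 4 - 1 = (M + 1) * ((M ^ 2 + 1) * (M - 1)) := by noncomm_ring
  rw [h4, Matrix.mul_zero] at h6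
  exact sub_eq_zero.1 h6

/-- powers of `X X̄` for `det X = 1` -/
theorem pow_det_one {X : M4} (hX : Xᵀ * X.map cj = 1) (hd1 : X.det = 1) :
    ∃ k ∈ [12, 13, 30], ∃ r : FQ, (X * X.map cj) ^ k = r • (1 : M4) := by
  obtain ⟨a, b, h3, h2, h1, hd⟩ := charpoly_sq hX
  obtain ⟨r, hr⟩ := pf_real hX hd1
  have h5 := eval_one hX hd1
  rw [eval_one', h3, h2, h1, hd, hr, pow_two] at h5
  have h4 := ch4 (X * X.map cj)
  have htr := Matrix.trace_eq_neg_charpoly_coeff (X * X.map cj)
  rw [Fintype.card_fin] at htr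
  norm_num at htr
  rw [h3, h2, h1, hd] at h4
  rw [h3] at htr
  rcases check1 a b r h5 with ⟨rfl, rfl⟩ | ⟨k, hk, a1, a2, a3⟩
  · refine ⟨12, by simp, 1, ?_⟩
    have hp : pf (unsk (X - Xᵀ)) = 0 := by
      rw [hr]
      have : ∀ r : Fin 5, cst r * cst r = 1 + cst 3 + cst 2 + cst 3 + 1 → cst r = 0 := by decide +kernel
      exact this r (by rw [h5])
    have h6 := pow_four_of_pf hX hp (by rw [htr]; decide +kernel)
    rw [show 12 = 4 * 3 from rfl, pow_mul, h6, one_pow, one_smul]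
  · exact ⟨k, hk, scalar_co4 h4 a1 a2 a3⟩

end Cfsg.Agent.H380.UF
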