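import Cfsg.Agent.H380.UF.Gu
import Cfsg.Agent.H380.UF.Coset

/-!
# Explicit elements of `PSU₄(5)` and its automorphism group (helper380)
-/

set_option autoImplicit false

namespace Cfsg.Agent.H380.UF

open Matrix Cfsg.Agent.H422.Recur Cfsg.Agent.ClassicalGeometry.PSUAutCount
open Cfsg.Agent.Schreier.PSU (f₁ f₂ mapGU conj_field f₁_eq_conj toAut_eq)

/-- powers from the recurrence -/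
def PW (a b c d : FQ) (M M2 M3 : M4) (n : ℕ) : M4 :=
  (co4 a b c d n).1 • M3 + (co4 a b c d n).2.1 • M2 + (co4 a b c d n).2.2.1 • M + (co4 a b c d n).2.2.2 • (1 : M4)

theorem pow_PW {a b c d : FQ} {M M2 M3 : M4} (h2 : M * M = M2) (h3 : M2 * M = M3)
    (h4 : M3 * M = a • M3 + b • M2 + c • M + d • (1 : M4)) (n : ℕ) : M ^ n = PW a b c d M M2 M3 n := by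
  have e2 : M ^ 2 = M2 := by rw [pow_two, h2]
  have e3 : M ^ 3 = M3 := by rw [pow_succ, e2, h3]
  have e4 : M ^ 4 = a • M ^ 3 + b • M ^ 2 + c • M + d • (1 : M4) := by rw [pow_succ, e3, e2, h4]
  rw [pow_co4 e4 n, e2, e3]
  rfl

/-- not a scalar matrix -/
def NS (Z : M4) : Prop := (∃ ij : Fin 4 × Fin 4, ij.1 ≠ ij.2 ∧ Z ij.1 ij.2 ≠ 0) ∨ ∃ i : Fin 4, Z i i ≠ Z 0 0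

instance decNS (Z : M4) : Decidable (NS Z) := by unfold NS; infer_instance

theorem NS.ne {Z : M4} (h : NS Z) {c : FQ} (hc : Z = c • (1 : M4)) : False := by
  subst hc
  rcases h with ⟨⟨i, j⟩, hij, h⟩ | ⟨i, h⟩
  · exact h (by rw [Matrix.smul_apply, Matrix.one_apply_ne hij, smul_zero])
  · exact h (by rw [Matrix.smul_apply, Matrix.smul_apply, Matrix.one_apply_eq, Matrix.one_apply_eq])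

theorem pr_scalar {g : SU4} (h : pr g = 1) : ∃ c : FQ, mat g = c • (1 : M4) := by
  have h1 := lin_eq_conj (mkGU (mat g) (mat_unit g)) g rfl
  rw [h, map_one] at h1
  exact lin_eq_one h1

/-- the order of an element of `PSU₄(5)` -/
theorem order_pr {a b c d : FQ} {g : SU4} {M2 M3 : M4} (h2 : mat g * mat g = M2) (h3 : M2 * mat g = M3)
    (h4 : M3 * mat g = a • M3 + b • M2 + c • mat g + d • (1 : M4)) {n : ℕ} (hn : 0 < n)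
    (hs : ∃ r : FQ, PW a b c d (mat g) M2 M3 n = r • (1 : M4))
    (hp : ∀ p ∈ n.primeFactors, NS (PW a b c d (mat g) M2 M3 (n / p))) : orderOf (pr g) = n := by
  refine orderOf_eq_of_pow_and_pow_div_prime hn ?_ ?_
  · rw [← map_pow]
    refine (QuotientGroup.eq_one_iff _).2 ?_
    obtain ⟨r, hr⟩ := hs
    refine mem_center (r := r) ?_
    rw [mat_pow, pow_PW h2 h3 h4, hr]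
  · intro p hp1 hp2 h1
    rw [← map_pow] at h1
    obtain ⟨c', hc⟩ := pr_scalar h1
    rw [mat_pow, pow_PW h2 h3 h4] at hc
    exact (hp p (Nat.mem_primeFactors.2 ⟨hp1, hp2, hn.ne'⟩)).ne hc

/-- the order of a linear automorphism -/
theorem order_lin {a b c d : FQ} {g : GU4} {M2 M3 : M4} (h2 : gm g * gm g = M2) (h3 : M2 * gm g = M3)
    (h4 : M3 * gm g = a • M3 + b • M2 + c • gm g + d • (1 : M4)) {n : ℕ} (hn : 0 < n)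
    (hs : ∃ r : FQ, PW a b c d (gm g) M2 M3 n = r • (1 : M4))
    (hp : ∀ p ∈ n.primeFactors, NS (PW a b c d (gm g) M2 M3 (n / p))) : orderOf (lin g) = n := by
  refine orderOf_eq_of_pow_and_pow_div_prime hn ?_ ?_
  · rw [← map_pow]
    obtain ⟨r, hr⟩ := hs
    refine lin_one_of_smul (c := r) ?_
    rw [gm_pow, pow_PW h2 h3 h4, hr]
  · intro p hp1 hp2 h1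
    rw [← map_pow] at h1
    obtain ⟨c', hc⟩ := lin_eq_one h1
    rw [gm_pow, pow_PW h2 h3 h4] at hc
    exact (hp p (Nat.mem_primeFactors.2 ⟨hp1, hp2, hn.ne'⟩)).ne hc

/-! ### the matrices -/

def e63 : M4 := !![⟨4, 3⟩, ⟨0, 0⟩, ⟨0, 1⟩, ⟨0, 0⟩; ⟨0, 1⟩, ⟨0, 0⟩, ⟨4, 2⟩, ⟨0, 0⟩; ⟨0, 0⟩, ⟨3, 3⟩, ⟨0, 0⟩, ⟨0, 0⟩; ⟨0, 0⟩, ⟨0, 0⟩, ⟨0, 0⟩, ⟨2, 3⟩]
def e63_2 : M4 := !![⟨4, 4⟩, ⟨1, 3⟩, ⟨1, 4⟩, ⟨0, 0⟩; ⟨1, 4⟩, ⟨4, 3⟩, ⟨2, 0⟩, ⟨0, 0⟩; ⟨1, 3⟩, ⟨0, 0⟩, ⟨4, 3⟩, ⟨0, 0⟩; ⟨0, 0⟩, ⟨0, 0⟩, ⟨0, 0⟩, ⟨2, 2⟩]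
def e63_3 : M4 := !![⟨1, 4⟩, ⟨2, 0⟩, ⟨4, 3⟩, ⟨0, 0⟩; ⟨4, 3⟩, ⟨1, 1⟩, ⟨1, 1⟩, ⟨0, 0⟩; ⟨2, 0⟩, ⟨0, 1⟩, ⟨1, 1⟩, ⟨0, 0⟩; ⟨0, 0⟩, ⟨0, 0⟩, ⟨0, 0⟩, ⟨1, 0⟩]
def e52 : M4 := !![⟨2, 1⟩, ⟨3, 1⟩, ⟨4, 0⟩, ⟨2, 3⟩; ⟨3, 4⟩, ⟨0, 0⟩, ⟨1, 3⟩, ⟨4, 0⟩; ⟨1, 0⟩, ⟨0, 0⟩, ⟨4, 1⟩, ⟨1, 0⟩; ⟨2, 2⟩, ⟨1, 4⟩, ⟨0, 4⟩, ⟨1, 2⟩]
def e52_2 : M4 := !![⟨3, 4⟩, ⟨4, 1⟩, ⟨2, 1⟩, ⟨0, 4⟩; ⟨3, 2⟩, ⟨1, 1⟩, ⟨2, 0⟩, ⟨0, 3⟩; ⟨3, 4⟩, ⟨4, 0⟩, ⟨2, 2⟩, ⟨2, 1⟩; ⟨3, 2⟩, ⟨2, 4⟩, ⟨2, 0⟩, ⟨4, 4⟩]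
def e52_3 : M4 := !![⟨2, 4⟩, ⟨4, 4⟩, ⟨4, 0⟩, ⟨4, 1⟩; ⟨0, 0⟩, ⟨2, 2⟩, ⟨1, 4⟩, ⟨1, 0⟩; ⟨1, 0⟩, ⟨2, 4⟩, ⟨1, 1⟩, ⟨4, 4⟩; ⟨4, 3⟩, ⟨4, 4⟩, ⟨3, 1⟩, ⟨3, 1⟩]
def e24 : M4 := !![⟨3, 2⟩, ⟨0, 0⟩, ⟨0, 0⟩, ⟨0, 0⟩; ⟨0, 0⟩, ⟨2, 2⟩, ⟨0, 0⟩, ⟨0, 0⟩; ⟨0, 0⟩, ⟨0, 0⟩, ⟨4, 1⟩, ⟨3, 1⟩; ⟨0, 0⟩, ⟨0, 0⟩, ⟨3, 4⟩, ⟨1, 1⟩]
def e24_2 : M4 := !![⟨2, 2⟩, ⟨0, 0⟩, ⟨0, 0⟩, ⟨0, 0⟩; ⟨0, 0⟩, ⟨2, 3⟩, ⟨0, 0⟩, ⟨0, 0⟩; ⟨0, 0⟩, ⟨0, 0⟩, ⟨0, 3⟩, ⟨4, 1⟩; ⟨0, 0⟩, ⟨0, 0⟩, ⟨1, 1⟩, ⟨0, 2⟩]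
def e24_3 : M4 := !![⟨4, 0⟩, ⟨0, 0⟩, ⟨0, 0⟩, ⟨0, 0⟩; ⟨0, 0⟩, ⟨1, 0⟩, ⟨0, 0⟩, ⟨0, 0⟩; ⟨0, 0⟩, ⟨0, 0⟩, ⟨1, 1⟩, ⟨2, 4⟩; ⟨0, 0⟩, ⟨0, 0⟩, ⟨2, 1⟩, ⟨4, 1⟩]
def e60 : M4 := !![⟨2, 0⟩, ⟨0, 2⟩, ⟨0, 0⟩, ⟨0, 0⟩; ⟨3, 4⟩, ⟨4, 4⟩, ⟨0, 0⟩, ⟨0, 0⟩; ⟨0, 0⟩, ⟨0, 0⟩, ⟨0, 0⟩, ⟨3, 3⟩; ⟨0, 0⟩, ⟨0, 0⟩, ⟨2, 2⟩, ⟨0, 0⟩]
def e60_2 : M4 := !![⟨0, 1⟩, ⟨1, 2⟩, ⟨0, 0⟩, ⟨0, 0⟩; ⟨0, 1⟩, ⟨4, 3⟩, ⟨0, 0⟩, ⟨0, 0⟩; ⟨0, 0⟩, ⟨0, 0⟩, ⟨3, 2⟩, ⟨0, 0⟩; ⟨0, 0⟩, ⟨0, 0⟩, ⟨0, 0⟩, ⟨3, 2⟩]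
def e60_3 : M4 := !![⟨4, 2⟩, ⟨4, 2⟩, ⟨0, 0⟩, ⟨0, 0⟩; ⟨1, 2⟩, ⟨4, 3⟩, ⟨0, 0⟩, ⟨0, 0⟩; ⟨0, 0⟩, ⟨0, 0⟩, ⟨0, 0⟩, ⟨1, 0⟩; ⟨0, 0⟩, ⟨0, 0⟩, ⟨4, 0⟩, ⟨0, 0⟩]
def d14 : M4 := !![⟨3, 1⟩, ⟨1, 4⟩, ⟨0, 0⟩, ⟨0, 0⟩; ⟨0, 0⟩, ⟨0, 0⟩, ⟨3, 2⟩, ⟨0, 0⟩; ⟨1, 4⟩, ⟨3, 1⟩, ⟨0, 0⟩, ⟨0, 0⟩; ⟨0, 0⟩, ⟨0, 0⟩, ⟨0, 0⟩, ⟨1, 0⟩]
def d14_2 : M4 := !![⟨1, 1⟩, ⟨1, 3⟩, ⟨4, 4⟩, ⟨0, 0⟩; ⟨4, 4⟩, ⟨3, 4⟩, ⟨0, 0⟩, ⟨0, 0⟩; ⟨1, 3⟩, ⟨3, 3⟩, ⟨3, 4⟩, ⟨0, 0⟩; ⟨0, 0⟩, ⟨0, 0⟩, ⟨0, 0⟩, ⟨1, 0⟩]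
def d14_3 : M4 := !![⟨1, 4⟩, ⟨4, 1⟩, ⟨0, 1⟩, ⟨0, 0⟩; ⟨0, 1⟩, ⟨1, 0⟩, ⟨0, 3⟩, ⟨0, 0⟩; ⟨4, 1⟩, ⟨2, 2⟩, ⟨1, 0⟩, ⟨0, 0⟩; ⟨0, 0⟩, ⟨0, 0⟩, ⟨0, 0⟩, ⟨1, 0⟩]
def a40 : M4 := !![⟨0, 4⟩, ⟨1, 2⟩, ⟨0, 0⟩, ⟨0, 0⟩; ⟨4, 2⟩, ⟨0, 1⟩, ⟨0, 0⟩, ⟨0, 0⟩; ⟨0, 0⟩, ⟨0, 0⟩, ⟨2, 1⟩, ⟨4, 4⟩; ⟨0, 0⟩, ⟨0, 0⟩, ⟨4, 1⟩, ⟨3, 1⟩]
def m40 : M4 := !![⟨4, 1⟩, ⟨0, 3⟩, ⟨0, 0⟩, ⟨0, 0⟩; ⟨0, 3⟩, ⟨4, 4⟩, ⟨0, 0⟩, ⟨0, 0⟩; ⟨0, 0⟩, ⟨0, 0⟩, ⟨0, 2⟩, ⟨4, 4⟩; ⟨0, 0⟩, ⟨0, 0⟩, ⟨1, 4⟩, ⟨0, 3⟩]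
def m40_2 : M4 := !![⟨1, 3⟩, ⟨0, 4⟩, ⟨0, 0⟩, ⟨0, 0⟩; ⟨0, 4⟩, ⟨1, 2⟩, ⟨0, 0⟩, ⟨0, 0⟩; ⟨0, 0⟩, ⟨0, 0⟩, ⟨4, 0⟩, ⟨0, 0⟩; ⟨0, 0⟩, ⟨0, 0⟩, ⟨0, 0⟩, ⟨4, 0⟩]
def m40_3 : M4 := !![⟨4, 3⟩, ⟨0, 4⟩, ⟨0, 0⟩, ⟨0, 0⟩; ⟨0, 4⟩, ⟨4, 2⟩, ⟨0, 0⟩, ⟨0, 0⟩; ⟨0, 0⟩, ⟨0, 0⟩, ⟨0, 3⟩, ⟨1, 1⟩; ⟨0, 0⟩, ⟨0, 0⟩, ⟨4, 1⟩, ⟨0, 2⟩]

def g63 : SU4 := mk e63 (by decide +kernel) (by decide +kernel)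
def g52 : SU4 := mk e52 (by decide +kernel) (by decide +kernel)
def g24 : SU4 := mk e24 (by decide +kernel) (by decide +kernel)
def g60 : SU4 := mk e60 (by decide +kernel) (by decide +kernel)
def D14 : GU4 := mkGU d14 (by decide +kernel)
def A40 : GU4 := mkGU a40 (by decide +kernel)

theorem pf63 : Nat.primeFactors 63 = {3, 7} := by decide +kernel
theorem pf52 : Nat.primeFactors 52 = {2, 13} := by decide +kernel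
theorem pf24 : Nat.primeFactors 24 = {2, 3} := by decide +kernel
theorem pf60 : Nat.primeFactors 60 = {2, 3, 5} := by decide +kernel
theorem pf14 : Nat.primeFactors 14 = {2, 7} := by decide +kernel
theorem pf20 : Nat.primeFactors 20 = {2, 5} := by decide +kernel

theorem order_63 : orderOf (pr g63) = 63 := by
  refine order_pr (a := ⟨1, 1⟩) (b := ⟨3, 0⟩) (c := ⟨1, 4⟩) (d := ⟨4, 0⟩) (M2 := e63_2) (M3 := e63_3)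
    (by decide +kernel) (by decide +kernel) (by decide +kernel) (by norm_num) (by decide +kernel) ?_
  rw [pf63]; decide +kernel

theorem order_52 : orderOf (pr g52) = 52 := by
  refine order_pr (a := ⟨2, 4⟩) (b := ⟨2, 0⟩) (c := ⟨2, 1⟩) (d := ⟨4, 0⟩) (M2 := e52_2) (M3 := e52_3)
    (by decide +kernel) (by decide +kernel) (by decide +kernel) (by norm_num) (by decide +kernel) ?_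
  rw [pf52]; decide +kernel

theorem order_24 : orderOf (pr g24) = 24 := by
  refine order_pr (a := ⟨0, 1⟩) (b := ⟨1, 0⟩) (c := ⟨0, 4⟩) (d := ⟨4, 0⟩) (M2 := e24_2) (M3 := e24_3)
    (by decide +kernel) (by decide +kernel) (by decide +kernel) (by norm_num) (by decide +kernel) ?_
  rw [pf24]; decide +kernel

theorem order_60 : orderOf (pr g60) = 60 := by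
  refine order_pr (a := ⟨1, 4⟩) (b := ⟨1, 0⟩) (c := ⟨1, 1⟩) (d := ⟨4, 0⟩) (M2 := e60_2) (M3 := e60_3)
    (by decide +kernel) (by decide +kernel) (by decide +kernel) (by norm_num) (by decide +kernel) ?_
  rw [pf60]; decide +kernel

theorem order_D14 : orderOf (lin D14) = 14 := by
  refine order_lin (a := ⟨4, 1⟩) (b := ⟨0, 3⟩) (c := ⟨1, 1⟩) (d := ⟨1, 0⟩) (M2 := d14_2) (M3 := d14_3)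
    (by decide +kernel) (by decide +kernel) (by decide +kernel) (by norm_num) (by decide +kernel) ?_
  rw [pf14]; decide +kernel

theorem order_A40' : orderOf (lin (A40 * mapGU cje A40)) = 20 := by
  refine order_lin (a := ⟨3, 0⟩) (b := ⟨3, 0⟩) (c := ⟨3, 0⟩) (d := ⟨4, 0⟩) (M2 := m40_2) (M3 := m40_3)
    (by decide +kernel) (by decide +kernel) (by decide +kernel) (by norm_num) (by decide +kernel) ?_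
  rw [pf20]; decide +kernel

theorem det_D14 : (gm D14).det = -1 := by decide +kernel
theorem det_A40 : (gm A40).det = -1 := by decide +kernel

theorem order_A40 : orderOf (lin A40 * phi) = 40 := by
  have h1 : orderOf ((lin A40 * phi) ^ 2) = 20 := by rw [sq_phi, order_A40']
  have h2 : lin A40 * phi ≠ 1 := by
    intro h
    rw [h, one_pow, orderOf_one] at h1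
    norm_num at h1
  set x := lin A40 * phi with hx
  have hpos : 0 < orderOf x := by
    refine Nat.pos_of_ne_zero fun h0 => ?_
    rw [orderOf_pow' x two_ne_zero, h0] at h1
    norm_num at h1
  have h3 := orderOf_pow' x two_ne_zero
  rw [h1] at h3
  by_cases hev : 2 ∣ orderOf x
  · rw [Nat.gcd_eq_right hev] at h3
    omega
  · exfalso
    have h4 : Nat.gcd (orderOf x) 2 = 1 := by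
      rw [Nat.gcd_comm]
      exact (Nat.Prime.coprime_iff_not_dvd Nat.prime_two).2 hev
    rw [h4, Nat.div_one] at h3
    omega

end Cfsg.Agent.H380.UF
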