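import Cfsg.Agent.H380.UF.Ext
import Cfsg.Agent.H413.U45.Defs
import Cfsg.Agent.LieClassical.FieldTransfer

/-!
# Groups with socle `PSU₄(5)`: spectra and prime graphs (helper380)
-/

set_option autoImplicit false

namespace Cfsg.Agent.H380.UF

open Matrix Cfsg.Agent.ClassicalGeometry.PSUAutCount
open Cfsg.Agent.H413.U45 (Gr)

section structural

variable {G : Type*} [Group G] [Finite G] {N : Subgroup G} [hN : N.Normal] (e : N ≃* U4)

/-- the action on the socle -/
noncomputable def acts : G →* MulAut U4 := (MulAut.congr e).toMonoidHom.comp MulAut.conjNormal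

omit [Finite G] in
theorem acts_apply (g : G) (x : U4) : acts e g x = e (MulAut.conjNormal g (e.symm x)) := rfl

omit [Finite G] in
theorem acts_mem (n : N) : acts e (n : G) = MulAut.conj (e n) := by
  ext x
  rw [acts_apply, MulAut.conj_apply]
  have : MulAut.conjNormal (n : G) (e.symm x) = n * e.symm x * n⁻¹ := by
    apply Subtype.ext
    rw [MulAut.conjNormal_apply]
    rfl
  rw [this, map_mul, map_mul, map_inv, MulEquiv.apply_symm_apply]

omit [Finite G] in
theorem acts_injective (hC : Subgroup.centralizer (N : Set G) = ⊥) : Function.Injective (acts e) := by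
  rw [injective_iff_map_eq_one]
  intro g hg
  have h1 : g ∈ Subgroup.centralizer (N : Set G) := by
    rw [Subgroup.mem_centralizer_iff]
    intro n hn
    have h2 := DFunLike.congr_fun hg (e ⟨n, hn⟩)
    rw [acts_apply, MulEquiv.symm_apply_apply, MulAut.one_apply] at h2
    have h3 := congrArg Subtype.val (e.injective h2)
    rw [MulAut.conjNormal_apply] at h3
    change g * n * g⁻¹ = n at h3
    rw [mul_inv_eq_iff_eq_mul] at h3
    exact h3.symm
  rwa [hC, Subgroup.mem_bot] at h1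

theorem relIndex_Ex {τ : MulAut U4} (hτ : τ ^ 2 ∈ Inn) : Inn.relIndex (Ex τ) ≤ 2 := by
  have h1 : Inn = (⊥ : Subgroup (MulAut U4 ⧸ Inn)).comap out := by
    rw [MonoidHom.comap_bot, QuotientGroup.ker_mk']
  have h2 : Inn.relIndex (Ex τ) = Nat.card (Subgroup.zpowers (out τ)) := by
    conv_lhs => rw [h1]
    rw [Subgroup.relIndex_comap, Ex, Subgroup.map_comap_eq_self_of_surjective (QuotientGroup.mk'_surjective Inn),
      Subgroup.relIndex_bot_left]
  rw [h2, Nat.card_zpowers]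
  refine Nat.le_of_dvd (by norm_num) (orderOf_dvd_of_pow_eq_one ?_)
  rw [← map_pow]
  exact out_eq_one.2 hτ

/-- **Groups with socle `PSU₄(5)` and without elements of order 14.** -/
theorem socle_main (e : N ≃* U4) (hC : Subgroup.centralizer (N : Set G) = ⊥) (h14 : ∀ g : G, orderOf g ≠ 2 * 7) :
    N.index ≤ 2 ∧ (Nonempty (G ≃* U4) ∨ Nonempty (G ≃* Ex phi) ∨ Nonempty (G ≃* Ex psi)) := by
  have hinj := acts_injective e hC
  have hInn : Inn ≤ (acts e).range := by
    rintro _ ⟨x, rfl⟩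
    refine ⟨(e.symm x : N), ?_⟩
    rw [acts_mem, MulEquiv.apply_symm_apply]
  have hidx : N.index = Inn.relIndex (acts e).range := by
    rw [← Subgroup.index_comap]
    congr 1
    ext g
    constructor
    · intro hg
      exact ⟨e ⟨g, hg⟩, (acts_mem e ⟨g, hg⟩).symm⟩
    · rintro ⟨x, hx⟩
      have h1 : acts e g = acts e (e.symm x : N) := by
        rw [acts_mem, MulEquiv.apply_symm_apply, ← hx]
      rw [hinj h1]
      exact (e.symm x).2
  have hB := overgroups hInn (by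
    rintro _ ⟨g, rfl⟩
    rw [orderOf_injective _ hinj]
    exact h14 g)
  have eG : G ≃* (acts e).range := MonoidHom.ofInjective hinj
  rcases hB with h | h | h
  · rw [h] at hidx
    rw [hidx, Subgroup.relIndex_self]
    refine ⟨by norm_num, Or.inl ⟨eG.trans ((MulEquiv.subgroupCongr h).trans (MonoidHom.ofInjective ?_).symm)⟩⟩
    rw [injective_iff_map_eq_one]
    intro x hx
    have h1 : x ∈ Subgroup.center U4 := by
      rw [Subgroup.mem_center_iff]
      intro y
      have h2 := DFunLike.congr_fun hx y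
      rw [MulAut.conj_apply, MulAut.one_apply, mul_inv_eq_iff_eq_mul] at h2
      exact h2.symm
    have h2 : Subgroup.center U4 = ⊥ := by
      refine ((simple_U).eq_bot_or_eq_top_of_normal _ inferInstance).resolve_right ?_
      intro h3
      have h4 : Function.Injective (1 : U4 →* MulAut U4) ∨ True := Or.inr trivial
      have h5 : pr g63 * pr g52 = pr g52 * pr g63 := by
        have : pr g52 ∈ Subgroup.center U4 := by rw [h3]; exact Subgroup.mem_top _
        exact Subgroup.mem_center_iff.1 this (pr g63)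
      have h6 : Commute (pr g63) (pr g52) := h5
      obtain ⟨k, hk, h7⟩ := psu_pow (pr g63 * pr g52)
      have h8 : orderOf (pr g63 * pr g52) = 63 * 52 := by
        rw [h6.orderOf_mul_eq_mul_orderOf_of_coprime (by rw [order_63, order_52]; norm_num), order_63, order_52]
      have h9 := orderOf_dvd_of_pow_eq_one h7
      rw [h8] at h9
      simp only [List.mem_cons, List.not_mem_nil, or_false] at hk
      rcases hk with rfl | rfl | rfl | rfl <;> revert h9 <;> decide
    rwa [h2, Subgroup.mem_bot] at h1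
  · rw [h] at hidx
    rw [hidx]
    exact ⟨relIndex_Ex phi_sq', Or.inr (Or.inl ⟨eG.trans (MulEquiv.subgroupCongr h)⟩)⟩
  · rw [h] at hidx
    rw [hidx]
    exact ⟨relIndex_Ex psi_sq, Or.inr (Or.inr ⟨eG.trans (MulEquiv.subgroupCongr h)⟩)⟩

end structural

/-! ### element orders and prime divisors -/

theorem exists_of_dvd {G : Type*} [Group G] {g : G} {n m : ℕ} (hn : 0 < n) (h : orderOf g = n) (hm : m ∣ n) :
    ∃ x : G, orderOf x = m := by
  obtain ⟨k, rfl⟩ := hm
  have hk : k ≠ 0 := by rintro rfl; simp at hn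
  refine ⟨g ^ k, ?_⟩
  rw [orderOf_pow' g hk, h, Nat.gcd_mul_left_left]
  exact Nat.mul_div_cancel _ (Nat.pos_of_ne_zero hk)

/-- the orders of the elements of `PSU₄(5)` -/
theorem mem_orders {m : ℕ} : (∃ x : U4, orderOf x = m) ↔ ∃ k ∈ [24, 52, 60, 63], m ∣ k := by
  constructor
  · rintro ⟨x, rfl⟩
    obtain ⟨k, hk, h⟩ := psu_pow x
    exact ⟨k, hk, orderOf_dvd_of_pow_eq_one h⟩
  · rintro ⟨k, hk, h⟩
    simp only [List.mem_cons, List.not_mem_nil, or_false] at hk
    rcases hk with rfl | rfl | rfl | rfl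
    · exact exists_of_dvd (by norm_num) order_24 h
    · exact exists_of_dvd (by norm_num) order_52 h
    · exact exists_of_dvd (by norm_num) order_60 h
    · exact exists_of_dvd (by norm_num) order_63 h

/-- the embedding of `PSU₄(5)` in its extensions -/
theorem exists_embed (τ : MulAut U4) : ∃ f : U4 →* Ex τ, Function.Injective f := by
  refine ⟨(MulAut.conj : U4 →* MulAut U4).codRestrict (Ex τ) (fun x => Inn_le τ ⟨x, rfl⟩), ?_⟩
  have hc : Function.Injective (MulAut.conj : U4 →* MulAut U4) := by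
    rw [← MonoidHom.ker_eq_bot_iff]
    refine ((simple_U).eq_bot_or_eq_top_of_normal _ inferInstance).resolve_right ?_
    intro h
    have h1 : pr g63 ∈ (MulAut.conj : U4 →* MulAut U4).ker := by rw [h]; exact Subgroup.mem_top _
    rw [MonoidHom.mem_ker] at h1
    obtain ⟨A, hA, hA2⟩ : ∃ A : GU4, gm A = mat g63 ∧ MulAut.conj (pr g63) = lin A :=
      ⟨mkGU (mat g63) (mat_unit g63), rfl, (lin_eq_conj _ g63 rfl).symm⟩
    rw [h1] at hA2
    obtain ⟨c, hc⟩ := lin_eq_one hA2.symm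
    rw [hA] at hc
    have h2 : NS (mat g63) := by decide +kernel
    exact h2.ne hc
  intro x y hxy
  exact hc (congrArg Subtype.val hxy)

theorem orders_phi {m : ℕ} : (∃ x : Ex phi, orderOf x = m) ↔ ∃ x : U4, orderOf x = m := by
  constructor
  · rintro ⟨x, rfl⟩
    obtain ⟨k, hk, h⟩ := Ex_phi_pow x.2
    rw [mem_orders]
    have h1 : orderOf x ∣ k := by
      rw [← Subgroup.orderOf_coe]
      exact orderOf_dvd_of_pow_eq_one h
    simp only [List.mem_cons, List.not_mem_nil, or_false] at hk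
    rcases hk with rfl | rfl | rfl | rfl | rfl
    · exact ⟨24, by simp, h1⟩
    · exact ⟨52, by simp, h1.trans (by norm_num)⟩
    · exact ⟨52, by simp, h1⟩
    · exact ⟨60, by simp, h1⟩
    · exact ⟨63, by simp, h1⟩
  · rintro ⟨x, rfl⟩
    obtain ⟨f, hf⟩ := exists_embed phi
    exact ⟨f x, orderOf_injective f hf x⟩

theorem orders_psi_pq {p q : ℕ} (hp : p.Prime) (hq : q.Prime) (hpq : p ≠ q) :
    (∃ x : Ex psi, orderOf x = p * q) ↔ ∃ x : U4, orderOf x = p * q := by
  constructor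
  · rintro ⟨x, hx⟩
    obtain ⟨k, hk, h⟩ := Ex_psi_pow x.2
    rw [mem_orders]
    have h1 : p * q ∣ k := by
      rw [← hx, ← Subgroup.orderOf_coe]
      exact orderOf_dvd_of_pow_eq_one h
    simp only [List.mem_cons, List.not_mem_nil, or_false] at hk
    rcases hk with rfl | rfl | rfl | rfl | rfl | rfl
    · exact ⟨24, by simp, h1⟩
    · exact ⟨52, by simp, h1.trans (by norm_num)⟩
    · have hpq' : p.Coprime q := (Nat.coprime_primes hp hq).2 hpq
      have key : ∀ r : ℕ, r.Prime → r ∣ 40 → r ∣ 60 := by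
        intro r hr h
        have h2 : r ∣ 2 ^ 3 * 5 := by rwa [show 2 ^ 3 * 5 = 40 from rfl]
        rcases (Nat.Prime.dvd_mul hr).1 h2 with h3 | h3
        · rw [(Nat.prime_dvd_prime_iff_eq hr Nat.prime_two).1 (hr.dvd_of_dvd_pow h3)]; norm_num
        · rw [(Nat.prime_dvd_prime_iff_eq hr (by norm_num)).1 h3]; norm_num
      refine ⟨60, by simp, hpq'.mul_dvd_of_dvd_of_dvd (key p hp ((Dvd.intro _ rfl).trans h1))
        (key q hq ((Dvd.intro_left _ rfl).trans h1))⟩
    · exact ⟨52, by simp, h1⟩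
    · exact ⟨60, by simp, h1⟩
    · exact ⟨63, by simp, h1⟩
  · rintro ⟨x, hx⟩
    obtain ⟨f, hf⟩ := exists_embed psi
    exact ⟨f x, by rw [orderOf_injective f hf x, hx]⟩

theorem psi_forty : ∃ x : Ex psi, orderOf x = 40 :=
  ⟨⟨psi, mem_Ex_self psi⟩, by rw [Subgroup.orderOf_mk]; exact order_A40⟩

theorem no_forty : ¬ ∃ x : U4, orderOf x = 40 := by
  rw [mem_orders]
  decide

theorem prime_dvd_iff {G : Type*} [Group G] [Finite G] {p : ℕ} (hp : p.Prime) : p ∣ Nat.card G ↔ ∃ g : G, orderOf g = p := by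
  haveI := Fact.mk hp
  constructor
  · intro h
    exact exists_prime_orderOf_dvd_card' p h
  · rintro ⟨g, rfl⟩
    exact orderOf_dvd_natCard g

instance finite_Aut : Finite (MulAut U4) :=
  Finite.of_injective (fun α : MulAut U4 => (α : U4 → U4)) (fun α β h => MulEquiv.ext fun x => congrFun h x)

theorem card_Ex {τ : MulAut U4} (hτ : τ ^ 2 ∈ Inn) {p : ℕ} (hp : p.Prime) :
    p ∣ Nat.card U4 ↔ p ∣ Nat.card (Ex τ) := by
  obtain ⟨f, hf⟩ := exists_embed τ
  have h1 : Nat.card U4 ∣ Nat.card (Ex τ) := Subgroup.card_dvd_of_injective f hf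
  constructor
  · exact fun h => h.trans h1
  · intro h
    obtain ⟨x, hx⟩ := (prime_dvd_iff hp).1 h
    have hx' : orderOf (x : MulAut U4) = p := by rw [Subgroup.orderOf_coe, hx]
    by_cases hp2 : p = 2
    · rw [hp2, card_U]; norm_num
    · -- `x` is in `Inn`
      rcases mem_Ex hτ x.2 with h2 | ⟨i, hi, h2⟩
      · rw [← hx']
        obtain ⟨y, hy⟩ := h2
        rw [← hy]
        exact (orderOf_map_dvd _ _).trans (orderOf_dvd_natCard y)
      · have h3 : (x : MulAut U4) ^ 2 ∈ Inn := by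
          rw [← out_eq_one, map_pow, h2, map_mul, out_eq_one.2 hi, one_mul, ← map_pow]
          exact out_eq_one.2 hτ
        obtain ⟨y, hy⟩ := h3
        have h4 : orderOf ((x : MulAut U4) ^ 2) = p := by
          rw [Nat.Coprime.orderOf_pow, hx']
          rw [hx']
          exact (Nat.coprime_primes hp Nat.prime_two).2 hp2
        rw [← h4, ← hy]
        exact (orderOf_map_dvd _ _).trans (orderOf_dvd_natCard y)

theorem not_iso_of {τ : MulAut U4} (h : τ ∉ Inn) : ¬ Nonempty (Ex τ ≃* U4) := by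
  rintro ⟨e⟩
  obtain ⟨f, hf⟩ := exists_embed τ
  have hs : IsSimpleGroup (Ex τ) := e.isSimpleGroup
  rcases hs.eq_bot_or_eq_top_of_normal (Inn.subgroupOf (Ex τ)) inferInstance with h1 | h1
  · have h2 : (⟨MulAut.conj (pr g63), Inn_le τ ⟨_, rfl⟩⟩ : Ex τ) ∈ Inn.subgroupOf (Ex τ) := by
      rw [Subgroup.mem_subgroupOf]
      exact ⟨_, rfl⟩
    rw [h1, Subgroup.mem_bot] at h2
    have h3 : MulAut.conj (pr g63) = 1 := congrArg Subtype.val h2
    rw [lin_eq_conj (mkGU (mat g63) (mat_unit g63)) g63 rfl |>.symm] at h3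
    obtain ⟨c, hc⟩ := lin_eq_one h3
    have h4 : NS (mat g63) := by decide +kernel
    exact h4.ne hc
  · apply h
    have h2 : (⟨τ, mem_Ex_self τ⟩ : Ex τ) ∈ Inn.subgroupOf (Ex τ) := by rw [h1]; exact Subgroup.mem_top _
    exact Subgroup.mem_subgroupOf.1 h2

theorem not_iso_phi : ¬ Nonempty (Ex phi ≃* U4) := not_iso_of phi_notMem

theorem not_iso_psi : ¬ Nonempty (Ex psi ≃* U4) := not_iso_of (lin_phi_notMem A40)

theorem not_iso_phi_psi : ¬ Nonempty (Ex phi ≃* Ex psi) := by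
  rintro ⟨e⟩
  obtain ⟨x, hx⟩ := psi_forty
  exact no_forty (orders_phi.1 ⟨e.symm x, by rw [MulEquiv.orderOf_eq, hx]⟩)

/-! ### transfer -/

/-- a field with 25 elements -/
noncomputable def fieldEquiv {F : Type*} [Field F] [Fintype F] (hF : Fintype.card F = 25) : F ≃+* FQ :=
  FiniteField.ringEquivOfCardEq (by rw [hF, FQ.card_FQ])

/-- `PSU₄(5)` over any field with 25 elements -/
noncomputable def psuEquiv {F : Type*} [Field F] [Fintype F] (hF : Fintype.card F = 25) : Cfsg.PSU 4 F 5 ≃* U4 :=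
  Cfsg.Agent.LieClassical.FieldTransfer.psuCongr 4 5 (fieldEquiv hF)

/-- the prime graph of `PSU₄(5)` -/
theorem gr_U4 : Gr U4 where
  primes p hp := by
    have h1 : Nat.card U4 = 2 ^ 7 * 3 ^ 4 * 5 ^ 6 * 7 * 13 := card_U
    constructor
    · intro h
      rw [h1] at h
      rcases (Nat.Prime.dvd_mul hp).1 h with h | h
      · rcases (Nat.Prime.dvd_mul hp).1 h with h | h
        · rcases (Nat.Prime.dvd_mul hp).1 h with h | h
          · rcases (Nat.Prime.dvd_mul hp).1 h with h | h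
            · exact Or.inl ((Nat.prime_dvd_prime_iff_eq hp (by norm_num)).1 (hp.dvd_of_dvd_pow h))
            · exact Or.inr (Or.inl ((Nat.prime_dvd_prime_iff_eq hp (by norm_num)).1 (hp.dvd_of_dvd_pow h)))
          · exact Or.inr (Or.inr (Or.inl ((Nat.prime_dvd_prime_iff_eq hp (by norm_num)).1 (hp.dvd_of_dvd_pow h))))
        · exact Or.inr (Or.inr (Or.inr (Or.inl ((Nat.prime_dvd_prime_iff_eq hp (by norm_num)).1 h))))
      · exact Or.inr (Or.inr (Or.inr (Or.inr ((Nat.prime_dvd_prime_iff_eq hp (by norm_num)).1 h))))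
    · rintro (rfl | rfl | rfl | rfl | rfl) <;> rw [h1] <;> norm_num
  no14 g hg := by
    have := mem_orders.1 ⟨g, hg⟩
    revert this; decide
  no35 g hg := by
    have := mem_orders.1 ⟨g, hg⟩
    revert this; decide
  no39 g hg := by
    have := mem_orders.1 ⟨g, hg⟩
    revert this; decide
  no65 g hg := by
    have := mem_orders.1 ⟨g, hg⟩
    revert this; decide
  no91 g hg := by
    have := mem_orders.1 ⟨g, hg⟩
    revert this; decide
  has26 := mem_orders.2 (by decide)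
  has21 := mem_orders.2 (by decide)

/-- the same prime graph gives `Gr` -/
theorem gr_of_graph {G : Type*} [Group G] [Finite G]
    (h1 : ∀ p : ℕ, p.Prime → (p ∣ Nat.card U4 ↔ p ∣ Nat.card G))
    (h2 : ∀ p q : ℕ, p.Prime → q.Prime → p ≠ q → ((∃ g : U4, orderOf g = p * q) ↔ (∃ g : G, orderOf g = p * q))) :
    Gr G where
  primes p hp := by rw [← h1 p hp, gr_U4.primes p hp]
  no14 g hg := by
    obtain ⟨x, hx⟩ := (h2 2 7 (by norm_num) (by norm_num) (by norm_num)).2 ⟨g, hg⟩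
    exact gr_U4.no14 x hx
  no35 g hg := by
    obtain ⟨x, hx⟩ := (h2 5 7 (by norm_num) (by norm_num) (by norm_num)).2 ⟨g, hg⟩
    exact gr_U4.no35 x hx
  no39 g hg := by
    obtain ⟨x, hx⟩ := (h2 3 13 (by norm_num) (by norm_num) (by norm_num)).2 ⟨g, hg⟩
    exact gr_U4.no39 x hx
  no65 g hg := by
    obtain ⟨x, hx⟩ := (h2 5 13 (by norm_num) (by norm_num) (by norm_num)).2 ⟨g, hg⟩
    exact gr_U4.no65 x hx
  no91 g hg := by
    obtain ⟨x, hx⟩ := (h2 7 13 (by norm_num) (by norm_num) (by norm_num)).2 ⟨g, hg⟩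
    exact gr_U4.no91 x hx
  has26 := (h2 2 13 (by norm_num) (by norm_num) (by norm_num)).1 gr_U4.has26
  has21 := (h2 3 7 (by norm_num) (by norm_num) (by norm_num)).1 gr_U4.has21

/-- the same element orders give `Gr` -/
theorem gr_of_orders {G : Type*} [Group G] [Finite G]
    (h : ∀ m : ℕ, (∃ g : U4, orderOf g = m) ↔ ∃ g : G, orderOf g = m) : Gr G :=
  gr_of_graph (fun p hp => by rw [prime_dvd_iff hp, prime_dvd_iff hp, h]) (fun p q _ _ _ => h _)

/-- The structure theorem wanted from the reduction: groups with the prime graph have the socle. -/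
def Structure.{u} : Prop := ∀ (G : Type u) [Group G] [Finite G], Gr G →
    ∃ N : Subgroup G, N.Normal ∧ Nonempty (N ≃* U4) ∧ Subgroup.centralizer (N : Set G) = ⊥

/-- **Groups with the prime graph of `PSU₄(5)`.** -/
theorem graph_main.{u} (T : Structure.{u}) {G : Type u} [Group G] [Finite G] (hG : Gr G) :
    (∃ N : Subgroup G, N.Normal ∧ Nonempty (N ≃* U4) ∧ Subgroup.centralizer (N : Set G) = ⊥ ∧ N.index ≤ 2) ∧
    (Nonempty (G ≃* U4) ∨ Nonempty (G ≃* Ex phi) ∨ Nonempty (G ≃* Ex psi)) := by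
  obtain ⟨N, hN, ⟨e⟩, hC⟩ := T G hG
  have h := socle_main e hC hG.no14
  exact ⟨⟨N, hN, ⟨e⟩, hC, h.1⟩, h.2⟩

theorem range_iff {A B : Type*} [Group A] [Group B]
    (h : Set.range (orderOf : A → ℕ) = Set.range (orderOf : B → ℕ)) (m : ℕ) :
    (∃ g : B, orderOf g = m) ↔ ∃ g : A, orderOf g = m := by
  have := Set.ext_iff.1 h m
  exact this.symm

theorem equiv_iff {A B : Type*} [Group A] [Group B] (e : A ≃* B) (m : ℕ) :
    (∃ g : A, orderOf g = m) ↔ ∃ g : B, orderOf g = m :=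
  ⟨fun ⟨g, hg⟩ => ⟨e g, by rw [MulEquiv.orderOf_eq, hg]⟩, fun ⟨g, hg⟩ => ⟨e.symm g, by rw [MulEquiv.orderOf_eq, hg]⟩⟩

/-- **S3606**, given the structure theorem -/
theorem s3606.{u} (T : Structure.{u}) {F : Type*} [Field F] [Fintype F] (hF : Fintype.card F = 25)
    {H : Type u} [Group H] [Finite H]
    (h : Set.range (orderOf : H → ℕ) = Set.range (orderOf : Cfsg.PSU 4 F 5 → ℕ)) :
    ∃ N : Subgroup H, N.Normal ∧ Nonempty (↥N ≃* Cfsg.PSU 4 F 5) ∧ Subgroup.centralizer (N : Set H) = ⊥ ∧ N.index ≤ 2 := by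
  have h1 : Gr H := gr_of_orders fun m => by
    rw [← equiv_iff (psuEquiv hF) m, range_iff h m]
  obtain ⟨⟨N, hN, ⟨e⟩, hC, hi⟩, -⟩ := graph_main T h1
  exact ⟨N, hN, ⟨e.trans (psuEquiv hF).symm⟩, hC, hi⟩

/-- **S3607**, given the structure theorem -/
theorem s3607 (T : Structure.{0}) {F : Type*} [Field F] [Fintype F] (hF : Fintype.card F = 25) :
    ∃ (H₀ : Type) (_ : Group H₀) (_ : Fintype H₀),
      Set.range (orderOf : H₀ → ℕ) = Set.range (orderOf : Cfsg.PSU 4 F 5 → ℕ) ∧ ¬ Nonempty (H₀ ≃* Cfsg.PSU 4 F 5) ∧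
      ∀ (H : Type) [Group H] [Finite H], Set.range (orderOf : H → ℕ) = Set.range (orderOf : Cfsg.PSU 4 F 5 → ℕ) →
        Nonempty (H ≃* Cfsg.PSU 4 F 5) ∨ Nonempty (H ≃* H₀) := by
  refine ⟨Ex phi, inferInstance, Fintype.ofFinite _, ?_, ?_, ?_⟩
  · ext m
    change (∃ x : Ex phi, orderOf x = m) ↔ ∃ x : Cfsg.PSU 4 F 5, orderOf x = m
    rw [orders_phi, equiv_iff (psuEquiv hF) m]
  · rintro ⟨e⟩
    exact not_iso_phi ⟨e.trans (psuEquiv hF)⟩
  · intro H _ _ h
    have h1 : Gr H := gr_of_orders fun m => by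
      rw [← equiv_iff (psuEquiv hF) m, range_iff h m]
    rcases (graph_main T h1).2 with ⟨⟨e⟩⟩ | ⟨⟨e⟩⟩ | ⟨⟨e⟩⟩
    · exact Or.inl ⟨e.trans (psuEquiv hF).symm⟩
    · exact Or.inr ⟨e⟩
    · exfalso
      obtain ⟨x, hx⟩ := psi_forty
      have h2 := (range_iff h 40).2 ⟨e.symm x, by rw [MulEquiv.orderOf_eq, hx]⟩
      exact no_forty ((equiv_iff (psuEquiv hF) 40).1 h2)

/-- **S3657**, given the structure theorem -/
theorem s3657 (T : Structure.{0}) {F : Type*} [Field F] [Fintype F] (hF : Fintype.card F = 25) :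
    ∃ (H₁ : Type) (_ : Group H₁) (_ : Fintype H₁) (H₂ : Type) (_ : Group H₂) (_ : Fintype H₂),
      ((∀ p : ℕ, p.Prime → (p ∣ Nat.card (Cfsg.PSU 4 F 5) ↔ p ∣ Nat.card H₁)) ∧
      (∀ p q : ℕ, p.Prime → q.Prime → p ≠ q → ((∃ g : (Cfsg.PSU 4 F 5), orderOf g = p * q) ↔ (∃ g : H₁, orderOf g = p * q)))) ∧
      ((∀ p : ℕ, p.Prime → (p ∣ Nat.card (Cfsg.PSU 4 F 5) ↔ p ∣ Nat.card H₂)) ∧
      (∀ p q : ℕ, p.Prime → q.Prime → p ≠ q → ((∃ g : (Cfsg.PSU 4 F 5), orderOf g = p * q) ↔ (∃ g : H₂, orderOf g = p * q)))) ∧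
      ¬ Nonempty (H₁ ≃* Cfsg.PSU 4 F 5) ∧ ¬ Nonempty (H₂ ≃* Cfsg.PSU 4 F 5) ∧ ¬ Nonempty (H₁ ≃* H₂) ∧
      ∀ (H : Type) [Group H] [Finite H], ((∀ p : ℕ, p.Prime → (p ∣ Nat.card (Cfsg.PSU 4 F 5) ↔ p ∣ Nat.card H)) ∧
      (∀ p q : ℕ, p.Prime → q.Prime → p ≠ q → ((∃ g : (Cfsg.PSU 4 F 5), orderOf g = p * q) ↔ (∃ g : H, orderOf g = p * q)))) →
        Nonempty (H ≃* Cfsg.PSU 4 F 5) ∨ Nonempty (H ≃* H₁) ∨ Nonempty (H ≃* H₂) := by
  have hc : Nat.card (Cfsg.PSU 4 F 5) = Nat.card U4 := Nat.card_congr (psuEquiv hF).toEquiv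
  refine ⟨Ex phi, inferInstance, Fintype.ofFinite _, Ex psi, inferInstance, Fintype.ofFinite _,
    ⟨fun p hp => ?_, fun p q hp hq hpq => ?_⟩, ⟨fun p hp => ?_, fun p q hp hq hpq => ?_⟩, ?_, ?_, not_iso_phi_psi, ?_⟩
  · rw [hc]; exact card_Ex phi_sq' hp
  · rw [orders_phi, equiv_iff (psuEquiv hF)]
  · rw [hc]; exact card_Ex psi_sq hp
  · rw [orders_psi_pq hp hq hpq, equiv_iff (psuEquiv hF)]
  · rintro ⟨e⟩
    exact not_iso_phi ⟨e.trans (psuEquiv hF)⟩
  · rintro ⟨e⟩
    exact not_iso_psi ⟨e.trans (psuEquiv hF)⟩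
  · rintro H _ _ ⟨h1, h2⟩
    have h3 : Gr H := gr_of_graph (fun p hp => by rw [← h1 p hp, hc])
      (fun p q hp hq hpq => by rw [← h2 p q hp hq hpq, equiv_iff (psuEquiv hF)])
    rcases (graph_main T h3).2 with ⟨⟨e⟩⟩ | ⟨⟨e⟩⟩ | ⟨⟨e⟩⟩
    · exact Or.inl ⟨e.trans (psuEquiv hF).symm⟩
    · exact Or.inr (Or.inl ⟨e⟩)
    · exact Or.inr (Or.inr ⟨e⟩)

end Cfsg.Agent.H380.UF
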