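import Cfsg.Agent.H380.UF.AutLib
import Cfsg.Agent.H70.SzAutThm
import Cfsg.Agent.OrdDiv.Main

/-!
# `Aut(Sz(8))` has no elements of order 21
-/

set_option autoImplicit false

namespace Cfsg.Agent.H380.UF.AutSz

open Cfsg Cfsg.Agent.ThreePrime Cfsg.Agent.ThreePrime.SzRel Cfsg.Agent.LieRecognition.SzMatrix
  Cfsg.Agent.H70.SzOut Cfsg.Agent.H70.SzAutThm Cfsg.Agent.H380.UF.AutLib

universe u

section field

variable {F : Type*} [Field F]

/-- a field automorphism of `F_8` which fixes an element outside `{0, 1}` is trivial. -/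
theorem eq_one_of_fix (hF : Nat.card F = 8) {σ : F ≃+* F} {t : F} (h0 : t ≠ 0) (h1 : t ≠ 1) (h : σ t = t) : σ = 1 := by
  have hfin : Finite F := Nat.finite_of_card_ne_zero (by rw [hF]; norm_num)
  have hc : Nat.card Fˣ = 7 := by
    rw [Nat.card_units, hF]
  have : Fact (Nat.Prime 7) := ⟨by norm_num⟩
  apply RingEquiv.ext
  intro x
  by_cases hx : x = 0
  · rw [hx, map_zero, map_zero]
  · have h2 : Units.mk0 x hx ∈ Subgroup.zpowers (Units.mk0 t h0) := by
      apply mem_zpowers_of_prime_card hc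
      intro h3
      exact h1 (congrArg Units.val h3)
    obtain ⟨k, hk⟩ := h2
    have h3 : t ^ k = x := by
      have := congrArg Units.val hk
      rwa [Units.val_zpow_eq_zpow_val] at this
    change σ x = x
    rw [← h3, map_zpow₀, h]

/-- the trace of the elements of order 7 is not in `{0, 1}`. -/
theorem trace_ne (h2 : (2 : F) = 0) {k : F} (h7 : k ^ 7 = 1) (h1 : k ≠ 1) :
    k + k ^ 3 + k ^ 4 + k ^ 6 ≠ 0 ∧ k + k ^ 3 + k ^ 4 + k ^ 6 ≠ 1 := by
  have h3 : 1 + k + k ^ 2 + k ^ 3 + k ^ 4 + k ^ 5 + k ^ 6 = 0 := by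
    have h4 : (k - 1) * (1 + k + k ^ 2 + k ^ 3 + k ^ 4 + k ^ 5 + k ^ 6) = 0 := by
      linear_combination h7
    rcases mul_eq_zero.1 h4 with h4 | h4
    · exact absurd (sub_eq_zero.1 h4) h1
    · exact h4
  constructor
  · intro h
    apply h1
    -- k ^ 5 = k ^ 2 + 1, so k ^ 7 = k ^ 4 + k ^ 2 and k ^ 4 = k ^ 2 + 1 = k ^ 5
    have h5 : k ^ 5 = k ^ 2 + 1 := by linear_combination h3 - h - (k ^ 2 + 1) * h2
    have h6 : k ^ 4 = k ^ 2 + 1 := by
      have h8 : k ^ 7 = k ^ 4 + k ^ 2 := by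
        calc k ^ 7 = k ^ 5 * k ^ 2 := by ring
          _ = k ^ 4 + k ^ 2 := by rw [h5]; ring
      rw [h7] at h8
      linear_combination -h8 - k ^ 2 * h2 + h2 * k ^ 2 - k ^ 2 * h2 + 0 * h2
    have hk : k ≠ 0 := by
      rintro rfl
      norm_num at h7
    have h9 : k ^ 4 * (k - 1) = 0 := by
      have : k ^ 5 = k ^ 4 := by rw [h5, h6]
      linear_combination this
    rcases mul_eq_zero.1 h9 with h9 | h9
    · exact absurd h9 (pow_ne_zero _ hk)
    · exact sub_eq_zero.1 h9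
  · intro h
    apply h1
    have hk : k ≠ 0 := by
      rintro rfl
      norm_num at h7
    have h5 : k ^ 2 * (k ^ 3 - 1) = 0 := by linear_combination h3 - h - (1 + k ^ 2) * h2
    rcases mul_eq_zero.1 h5 with h5 | h5
    · exact absurd h5 (pow_ne_zero _ hk)
    · have h6 : k ^ 3 = 1 := sub_eq_zero.1 h5
      calc k = k ^ 7 * ((k ^ 3) ^ 2)⁻¹ := by
            rw [← pow_mul]
            field_simp
        _ = 1 := by rw [h7, h6]; norm_num

end field

/-- the trace of a matrix, as a function on `Sz`. -/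
def tr {F : Type*} [Field F] (g : ↥(Cfsg.Lie.Sz F (2 ^ (1 + 1)))) : F := Matrix.trace g.1.1

theorem tr_conj {F : Type*} [Field F] (g h : ↥(Cfsg.Lie.Sz F (2 ^ (1 + 1)))) : tr (g * h * g⁻¹) = tr h := by
  change Matrix.trace (g.1.1 * h.1.1 * (g.1⁻¹).1) = Matrix.trace h.1.1
  rw [Matrix.trace_mul_comm, ← mul_assoc]
  have h1 : (g.1⁻¹).1 * g.1.1 = 1 := by
    rw [← Units.val_mul, inv_mul_cancel, Units.val_one]
  rw [h1, one_mul]

theorem card_sz {F : Type*} [Field F] [Fintype F] (hF : Fintype.card F = 2 ^ (2 * 1 + 1)) :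
    Nat.card ↥(Cfsg.Lie.Sz F (2 ^ (1 + 1))) = 29120 := by
  rw [(Cfsg.Agent.S1163.result le_rfl hF).1]
  norm_num

theorem tr_ne {F : Type*} [Field F] [Fintype F] (hF : Fintype.card F = 2 ^ (2 * 1 + 1))
    (y : ↥(Cfsg.Lie.Sz F (2 ^ (1 + 1)))) (hy : orderOf y = 7) : tr y ≠ 0 ∧ tr y ≠ 1 := by
  have H := good hF
  have : Fact (Nat.Prime 7) := ⟨by norm_num⟩
  have hcU : Nat.card Fˣ = 7 := by
    rw [Nat.card_units, Nat.card_eq_fintype_card, hF]
    norm_num
  let dh : Fˣ →* ↥(Cfsg.Lie.Sz F (2 ^ (1 + 1))) :=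
    { toFun := H.d
      map_one' := (ofGood H).d_one
      map_mul' := fun a b => (H.d_mul a b).symm }
  have hinj : Function.Injective dh := fun a b hab => H.d_inj hab
  have hcard : Nat.card dh.range = 7 ^ (Nat.card ↥(Cfsg.Lie.Sz F (2 ^ (1 + 1)))).factorization 7 := by
    have h1 : Nat.card dh.range = 7 := by
      rw [← hcU]
      exact (Nat.card_congr (MonoidHom.ofInjective hinj).toEquiv).symm
    rw [h1, card_sz hF]
    have h3 : (29120 : ℕ).factorization 7 = 1 := by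
      have h4 : (29120 : ℕ) = 7 ^ 1 * 4160 := by norm_num
      rw [h4, Nat.factorization_mul (by norm_num) (by norm_num), Finsupp.add_apply,
        Nat.Prime.factorization_pow (by norm_num), Finsupp.single_eq_same,
        Nat.factorization_eq_zero_of_not_dvd (by norm_num)]
    rw [h3, pow_one]
  have hcy : Nat.card (Subgroup.zpowers y) = 7 ^ (Nat.card ↥(Cfsg.Lie.Sz F (2 ^ (1 + 1)))).factorization 7 := by
    rw [← hcard, Nat.card_zpowers, hy]
    rw [← hcU]
    exact (Nat.card_congr (MonoidHom.ofInjective hinj).toEquiv)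
  have hfin : Finite ↥(Cfsg.Lie.Sz F (2 ^ (1 + 1))) := Nat.finite_of_card_ne_zero (by rw [card_sz hF]; norm_num)
  obtain ⟨c, hc⟩ := MulAction.exists_smul_eq ↥(Cfsg.Lie.Sz F (2 ^ (1 + 1))) (Sylow.ofCard _ hcy) (Sylow.ofCard _ hcard)
  have h1 : c * y * c⁻¹ ∈ dh.range := by
    have h2 : c * y * c⁻¹ ∈ ((c • Sylow.ofCard _ hcy : Sylow 7 _) : Subgroup ↥(Cfsg.Lie.Sz F (2 ^ (1 + 1)))) := by
      rw [Sylow.coe_subgroup_smul, Subgroup.mem_smul_pointwise_iff_exists]
      exact ⟨y, Subgroup.mem_zpowers y, rfl⟩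
    rw [hc] at h2
    exact h2
  obtain ⟨k, hk⟩ := h1
  have hk1 : k ≠ 1 := by
    rintro rfl
    rw [map_one] at hk
    have h2 : y = 1 := by
      have h3 := hk.symm
      rw [mul_inv_eq_one, mul_eq_left] at h3
      exact h3
    rw [h2, orderOf_one] at hy
    norm_num at hy
  have hk7 : (k : F) ^ 7 = 1 := by
    have h2 := pow_card_eq_one' (x := k)
    rw [hcU] at h2
    have h3 := congrArg Units.val h2
    rwa [Units.val_pow_eq_pow_val, Units.val_one] at h3
  have hk1' : (k : F) ≠ 1 := fun h => hk1 (Units.ext h)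
  have hk0 : (k : F) ≠ 0 := k.ne_zero
  have htr : tr y = k + k ^ 3 + k ^ 4 + k ^ 6 := by
    rw [← tr_conj c y, ← hk]
    change Matrix.trace (Dmat _ k) = _
    rw [Dmat_def, Matrix.trace, Fin.sum_univ_four]
    change (k : F) + theta hF k * (k : F)⁻¹ + k * (theta hF k)⁻¹ + (k : F)⁻¹ = _
    have h4 : (k : F) ^ (2 ^ (1 + 1)) * (k : F)⁻¹ = (k : F) ^ 3 := by
      field_simp
      try norm_num
    have h5 : (k : F) * ((k : F) ^ (2 ^ (1 + 1)))⁻¹ = (k : F) ^ 4 := by
      rw [mul_inv_eq_iff_eq_mul₀ (pow_ne_zero _ hk0)]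
      calc (k : F) = k ^ 7 * k := by rw [hk7, one_mul]
        _ = _ := by ring
    have h6 : (k : F)⁻¹ = (k : F) ^ 6 := by
      apply inv_eq_of_mul_eq_one_right
      calc (k : F) * k ^ 6 = k ^ 7 := by ring
        _ = 1 := hk7
    rw [← H.pow, h4, h5, h6]
  rw [htr]
  exact trace_ne H.two hk7 hk1'

/-- **`Aut(Sz(8))` has no elements of order 21.** -/
theorem no21 {X : Type u} [Group X] [Finite X] (S : Subgroup X) [S.Normal] (hS : Cfsg.Agent.OrdDiv.Real (.sz 8) S)
    (hC : Subgroup.centralizer (S : Set X) = ⊥) (x : X) : orderOf x ≠ 21 := by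
  intro hx
  obtain ⟨F, _, _, m, hm, hF, h8, ⟨e⟩⟩ := hS
  obtain rfl : m = 1 := by
    have h1 : 2 * m + 1 = 3 := by
      apply Nat.pow_right_injective (le_refl 2)
      change 2 ^ (2 * m + 1) = 2 ^ 3
      rw [← h8]
    omega
  have hF' : Fintype.card F = 2 ^ (2 * 1 + 1) := hF.trans h8
  have hcS : Nat.card S = 29120 := by rw [Nat.card_congr e.toEquiv, card_sz hF']
  have hout := card_out hm hF'
  -- the element of order 7
  have ho7 : orderOf (x ^ 3) = 7 := by
    rw [orderOf_pow' x (by norm_num), hx]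
    norm_num
  have ho3 : orderOf (x ^ 7) = 3 := by
    rw [orderOf_pow' x (by norm_num), hx]
    norm_num
  have hyS : x ^ 3 ∈ S := AutLib.pow_mem S e hC hout x
  have hcomm : x ^ 7 * x ^ 3 = x ^ 3 * x ^ 7 := by rw [← pow_add, ← pow_add, add_comm]
  have hfix := act_fix S e hyS hcomm
  have hoe : orderOf (e ⟨x ^ 3, hyS⟩) = 7 := by
    rw [MulEquiv.orderOf_eq, Subgroup.orderOf_mk, ho7]
  obtain ⟨ht0, ht1⟩ := tr_ne hF' _ hoe
  obtain ⟨g, σ, hψ⟩ := exists_conj_field hm hF' (act S e (x ^ 7))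
  have hσ : σ = 1 := by
    apply eq_one_of_fix (by rw [Nat.card_eq_fintype_card, hF']; norm_num) ht0 ht1
    rw [hψ, MulAut.mul_apply, MulAut.conj_apply] at hfix
    have h1 := congrArg tr hfix
    rw [tr_conj] at h1
    refine Eq.trans ?_ h1
    change σ (Matrix.trace _) = Matrix.trace (Matrix.map _ σ)
    rw [Matrix.trace, map_sum, Matrix.trace]
    rfl
  rw [hσ, map_one, mul_one] at hψ
  have h3S := mem_of_inner S e hC hψ
  have h1 : orderOf (x ^ 7) ∣ Nat.card S := by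
    have h2 := orderOf_dvd_natCard (⟨x ^ 7, h3S⟩ : S)
    rwa [Subgroup.orderOf_mk] at h2
  rw [ho3, hcS] at h1
  norm_num at h1

end Cfsg.Agent.H380.UF.AutSz
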