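import Cfsg.Agent.H413.U45.ASeven
import Cfsg.Agent.H421.Act

/-!
# Modules for `A₇` in characteristic 5 on which the 7-cycles act fixed-point-freely (helper380)

`main` : if moreover `|C_V(a)|² ≤ |V|` for the involution `a = (0 1)(2 3)` then `V = 0`.
-/

set_option autoImplicit false
set_option maxRecDepth 100000

namespace Cfsg.Agent.H380.UF.ASevenFive

open Cfsg.Agent.H413.U45.ASeven (A7 perm cA xA yA)

/-- the involution `(0 1)(2 3)` -/
def aA : A7 := ⟨perm [1, 0, 3, 2, 4, 5, 6] [1, 0, 3, 2, 4, 5, 6] (by decide), Equiv.Perm.mem_alternatingGroup.2 (by decide +kernel)⟩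
/-- the multiplication by 2 -/
def tA : A7 := ⟨perm [0, 2, 4, 6, 1, 3, 5] [0, 4, 1, 5, 2, 6, 3] (by decide), Equiv.Perm.mem_alternatingGroup.2 (by decide +kernel)⟩
/-- conjugates `tA` to `xA yA` -/
def gA : A7 := ⟨perm [6, 1, 2, 3, 0, 5, 4] [4, 1, 2, 3, 6, 5, 0] (by decide), Equiv.Perm.mem_alternatingGroup.2 (by decide +kernel)⟩
/-- conjugates `xA` to `yA` -/
def hA : A7 := ⟨perm [3, 4, 5, 0, 1, 2, 6] [3, 4, 5, 0, 1, 2, 6] (by decide) * perm [0, 1, 2, 4, 3, 5, 6] [0, 1, 2, 4, 3, 5, 6] (by decide),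
  Equiv.Perm.mem_alternatingGroup.2 (by decide +kernel)⟩

theorem eq_of {σ τ : A7} (h : σ.1 = τ.1) : σ = τ := Subtype.ext h

theorem t_conj : tA * cA * tA⁻¹ = cA * cA := eq_of (by decide +kernel)
theorem t_cube : tA ^ 3 = 1 := eq_of (by decide +kernel)
theorem g_conj : gA * tA * gA⁻¹ = xA * yA := eq_of (by decide +kernel)
theorem c_seven : cA ^ 7 = 1 := eq_of (by decide +kernel)
theorem xy_comm : xA * yA = yA * xA := eq_of (by decide +kernel)
theorem x_cube : xA * xA * xA = 1 := eq_of (by decide +kernel)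
theorem y_cube : yA * yA * yA = 1 := eq_of (by decide +kernel)
theorem a_sq : aA * aA = 1 := eq_of (by decide +kernel)
theorem a_rel : aA * (xA * aA * xA⁻¹) = xA⁻¹ * aA * xA := eq_of (by decide +kernel)
theorem h_conj : hA * xA * hA⁻¹ = yA := eq_of (by decide +kernel)

section

variable {V : Type*} [AddCommGroup V] (ρ : A7 →* AddMonoid.End V)

theorem ap_mul (g h : A7) (v : V) : ρ (g * h) v = ρ g (ρ h v) := by rw [map_mul]; rfl

theorem ap_one (v : V) : ρ 1 v = v := by rw [map_one]; rfl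

theorem ap_inv (g : A7) (v : V) : ρ g⁻¹ (ρ g v) = v := by rw [← ap_mul, inv_mul_cancel, ap_one]

theorem ap_inv' (g : A7) (v : V) : ρ g (ρ g⁻¹ v) = v := by rw [← ap_mul, mul_inv_cancel, ap_one]

/-- fixed vectors -/
def fx (g : A7) : AddSubgroup V where
  carrier := {v | ρ g v = v}
  add_mem' := by
    intro a b ha hb
    change ρ g (a + b) = a + b
    rw [map_add]
    exact congrArg₂ _ ha hb
  zero_mem' := map_zero _
  neg_mem' := by
    intro a ha
    change ρ g (-a) = -a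
    rw [map_neg]
    exact congrArg _ ha

variable {ρ}

theorem mem_fx {g : A7} {v : V} : v ∈ fx ρ g ↔ ρ g v = v := Iff.rfl

variable (ρ)

/-- `1 + g + g²` -/
def tr (g : A7) : V →+ V := (1 + ρ g + ρ g * ρ g : AddMonoid.End V)

theorem tr_apply (g : A7) (v : V) : tr ρ g v = v + ρ g v + ρ g (ρ g v) := rfl

variable {ρ}

/-- **Modules for `A₇` in characteristic 5.** -/
theorem main [Finite V] (h5 : ∀ v : V, 5 • v = 0) (h7 : ∀ v : V, ρ cA v = v → v = 0)
    (ha : Nat.card (fx ρ aA) ^ 2 ≤ Nat.card V) (v : V) : v = 0 := by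
  have hx3 : ∀ v, ρ xA (ρ xA (ρ xA v)) = v := fun v => by
    rw [← ap_mul, ← ap_mul, x_cube, ap_one]
  have hy3 : ∀ v, ρ yA (ρ yA (ρ yA v)) = v := fun v => by
    rw [← ap_mul, ← ap_mul, y_cube, ap_one]
  have hxy : ∀ v, ρ xA (ρ yA v) = ρ yA (ρ xA v) := fun v => by
    rw [← ap_mul, xy_comm, ap_mul]
  have key : ∀ w : V, tr ρ xA w = 0 → tr ρ yA w = 0 → w = 0 := fun w h1 h2 =>
    Cfsg.Agent.H413.U45.ASeven.main (Or.inr rfl) h5 h7 h1 h2
  have h3c : ∀ w : V, w + w + w = 0 → w = 0 := by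
    intro w hw
    have h1 : (5 : ℕ) • w = (w + w + w) + (w + w) := by
      rw [succ_nsmul, succ_nsmul, succ_nsmul, succ_nsmul, one_nsmul]; abel
    have h2 : w + w = 0 := by
      have := h5 w
      rwa [h1, hw, zero_add] at this
    rwa [h2, zero_add] at hw
  -- `V_(y) ≤ V^x`
  have hle : (tr ρ yA).ker ≤ fx ρ xA := by
    intro w hw
    rw [AddMonoidHom.mem_ker, tr_apply] at hw
    rw [mem_fx, ← sub_eq_zero]
    apply key
    · rw [tr_apply]
      simp only [map_sub, hx3]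
      abel
    · rw [tr_apply]
      have e : ρ xA w - w + ρ yA (ρ xA w - w) + ρ yA (ρ yA (ρ xA w - w)) =
          ρ xA (w + ρ yA w + ρ yA (ρ yA w)) - (w + ρ yA w + ρ yA (ρ yA w)) := by
        simp only [map_sub, map_add, hxy]
        abel
      rw [e, hw, map_zero, sub_zero]
  -- `V^x → V^a`
  have hinj : Nat.card (fx ρ xA) ≤ Nat.card (fx ρ aA) := by
    let f : fx ρ xA → fx ρ aA := fun w => ⟨w.1 + ρ aA w.1, by
      rw [mem_fx, map_add, ← ap_mul, a_sq, ap_one, add_comm]⟩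
    refine Nat.card_le_card_of_injective f ?_
    intro w w' hww
    have h1 : w.1 + ρ aA w.1 = w'.1 + ρ aA w'.1 := congrArg Subtype.val hww
    set u := w.1 - w'.1 with hu
    have hu1 : ρ aA u = -u := by
      rw [hu, map_sub]
      rw [eq_neg_iff_add_eq_zero]
      have : ρ aA w.1 - ρ aA w'.1 + (w.1 - w'.1) = (w.1 + ρ aA w.1) - (w'.1 + ρ aA w'.1) := by abel
      rw [this, h1, sub_self]
    have hux : ρ xA u = u := by
      have := (fx ρ xA).sub_mem w.2 w'.2
      exact mem_fx.1 this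
    have hux' : ρ xA⁻¹ u = u := by
      conv_lhs => rw [← hux]
      rw [ap_inv]
    have h2 := congrArg (fun g => ρ g u) a_rel
    simp only [ap_mul, hux, hux', hu1, map_neg, neg_neg] at h2
    -- `u = -u`
    have h3 : u = 0 := by
      have h4 : u + u = 0 := by
        nth_rw 1 [h2]
        exact neg_add_cancel u
      have h6 : (5 : ℕ) • u = (u + u) + (u + u) + u := by
        rw [succ_nsmul, succ_nsmul, succ_nsmul, succ_nsmul, one_nsmul]; abel
      have := h5 u
      rwa [h6, h4, zero_add, zero_add] at this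
    exact Subtype.ext (sub_eq_zero.1 h3)
  -- `|V| ≤ |V_(x)| |V^x|`
  have hV : Nat.card V ≤ Nat.card (tr ρ xA).ker * Nat.card (fx ρ xA) := by
    rw [AddSubgroup.card_eq_card_quotient_mul_card_addSubgroup (tr ρ xA).ker, mul_comm]
    refine Nat.mul_le_mul_left _ ?_
    rw [Nat.card_congr (QuotientAddGroup.quotientKerEquivRange (tr ρ xA)).toEquiv]
    refine Nat.card_le_card_of_injective (Set.inclusion ?_) (Set.inclusion_injective _)
    rintro _ ⟨w, rfl⟩
    change _ ∈ fx ρ xA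
    rw [mem_fx, tr_apply, map_add, map_add, hx3]
    abel
  have hxyc : Nat.card (tr ρ xA).ker = Nat.card (tr ρ yA).ker := by
    refine Nat.card_congr ⟨fun w => ⟨ρ hA w.1, ?_⟩, fun w => ⟨ρ hA⁻¹ w.1, ?_⟩, fun w => Subtype.ext (ap_inv ρ _ _),
      fun w => Subtype.ext (ap_inv' ρ _ _)⟩
    · have h1 := AddMonoidHom.mem_ker.1 w.2
      rw [tr_apply] at h1
      rw [AddMonoidHom.mem_ker, tr_apply]
      have e : ∀ u, ρ yA (ρ hA u) = ρ hA (ρ xA u) := fun u => by
        rw [← ap_mul, ← ap_mul]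
        congr 2
        rw [← h_conj]; group
      rw [e, e, ← map_add, ← map_add, h1, map_zero]
    · have h1 := AddMonoidHom.mem_ker.1 w.2
      rw [tr_apply] at h1
      rw [AddMonoidHom.mem_ker, tr_apply]
      have e : ∀ u, ρ xA (ρ hA⁻¹ u) = ρ hA⁻¹ (ρ yA u) := fun u => by
        rw [← ap_mul, ← ap_mul]
        congr 2
        rw [← h_conj]; group
      rw [e, e, ← map_add, ← map_add, h1, map_zero]
  have hcle : Nat.card (tr ρ yA).ker ≤ Nat.card (fx ρ xA) :=
    Nat.card_le_card_of_injective (Set.inclusion hle) (Set.inclusion_injective _)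
  have heq : (tr ρ yA).ker = fx ρ xA := by
    refine AddSubgroup.eq_of_le_of_card_ge hle ?_
    rw [hxyc] at hV
    have h1 : Nat.card (fx ρ aA) ^ 2 ≤ Nat.card (tr ρ yA).ker * Nat.card (fx ρ aA) :=
      ha.trans (hV.trans (Nat.mul_le_mul_left _ hinj))
    rw [pow_two] at h1
    exact hinj.trans (Nat.le_of_mul_le_mul_right h1 Nat.card_pos)
  -- `xy` has no fixed vectors
  have hfp : ∀ w : V, ρ (xA * yA) w = w → w = 0 := by
    intro w hw
    rw [ap_mul] at hw
    have e1 : ρ yA w = ρ xA (ρ xA w) := by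
      have := congrArg (fun u => ρ xA (ρ xA u)) hw
      simpa only [hx3] using this
    have e2 : ρ yA (ρ yA w) = ρ xA w := by
      rw [e1, ← hxy, ← hxy, e1, hx3]
    have e3 : tr ρ yA w = tr ρ xA w := by
      rw [tr_apply, tr_apply, e2, e1]; abel
    have e4 : tr ρ xA w ∈ fx ρ xA := by
      rw [mem_fx, tr_apply, map_add, map_add, hx3]; abel
    have e5 : ρ yA (tr ρ xA w) = tr ρ xA w := by
      rw [← e3, tr_apply, map_add, map_add, hy3]; abel
    have e6 : tr ρ xA w = 0 := by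
      rw [← heq, AddMonoidHom.mem_ker, tr_apply, e5, e5] at e4
      exact h3c _ e4
    exact key w e6 (e3.trans e6)
  have hft : ∀ w : V, ρ tA w = w → w = 0 := by
    intro w hw
    have h1 : ρ (xA * yA) (ρ gA w) = ρ gA w := by
      rw [← ap_mul, ← g_conj, inv_mul_cancel_right, ap_mul, hw]
    have h2 := hfp _ h1
    rw [← ap_inv ρ gA w, h2, map_zero]
  have hc7 : orderOf cA = 7 := by
    have : Fact (Nat.Prime 7) := ⟨by norm_num⟩
    exact orderOf_eq_prime c_seven (by decide +kernel)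
  apply h7
  refine Cfsg.Agent.H421.Act.frob_trivial ρ (Subgroup.zpowers cA) tA 3 (by norm_num) t_cube ?_ ?_ hft ?_ cA
    (Subgroup.mem_zpowers cA) v
  · intro a ha'
    obtain ⟨k, rfl⟩ := Subgroup.mem_zpowers_iff.1 ha'
    rw [← conj_zpow, t_conj]
    exact Subgroup.zpow_mem _ (Subgroup.mul_mem _ (Subgroup.mem_zpowers cA) (Subgroup.mem_zpowers cA)) k
  · intro i hi hi3 a ha' hc
    obtain ⟨k, rfl⟩ := Subgroup.mem_zpowers_iff.1 ha'
    have h1 : tA ^ i * cA ^ k * (tA ^ i)⁻¹ = cA ^ k := by rw [hc, mul_inv_cancel_right]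
    rw [← conj_zpow] at h1
    have h2 : i = 1 ∨ i = 2 := by omega
    have h3 : ∀ m : ℤ, cA ^ (m * k) = cA ^ k → (7 : ℤ) ∣ (m - 1) * k := by
      intro m hm
      have h4 : cA ^ ((m - 1) * k) = 1 := by
        rw [sub_mul, one_mul, zpow_sub, hm, mul_inv_cancel]
      have h5 := orderOf_dvd_iff_zpow_eq_one.2 h4
      rwa [hc7] at h5
    have h4 : (7 : ℤ) ∣ k := by
      rcases h2 with rfl | rfl
      · rw [pow_one, t_conj, ← pow_two, ← zpow_natCast, ← zpow_mul] at h1
        have := h3 2 (by exact_mod_cast h1)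
        omega
      · have e : tA ^ 2 * cA * (tA ^ 2)⁻¹ = cA ^ 4 := eq_of (by decide +kernel)
        rw [e, ← zpow_natCast, ← zpow_mul] at h1
        have := h3 4 (by exact_mod_cast h1)
        omega
    rw [← orderOf_dvd_iff_zpow_eq_one, hc7]
    exact h4
  · intro w hw
    rw [Nat.card_zpowers, hc7] at hw
    have h1 : (7 : ℕ) • w = (5 : ℕ) • w + (w + w) := by
      rw [show 7 = 5 + 1 + 1 from rfl, add_nsmul, add_nsmul, one_nsmul]; abel
    rw [h1, h5, zero_add] at hw
    have h6 : (5 : ℕ) • w = (w + w) + (w + w) + w := by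
      rw [succ_nsmul, succ_nsmul, succ_nsmul, succ_nsmul, one_nsmul]; abel
    have := h5 w
    rwa [h6, hw, zero_add, zero_add] at this

end

end Cfsg.Agent.H380.UF.ASevenFive
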