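import Cfsg.Agent.H380.UF.ModThree
import Cfsg.Agent.H380.UF.ASevenFive
import Cfsg.Agent.Lib.AltCarmichael

/-!
# `A₇` in `PSU₄(5)`, modules in characteristic 5 (helper380)

* `phi7 : A₇ →* U4`, the images of the Carmichael generators `(i 5 6)` are `pr (TT i)`;
* `eq_zero_of_seven_thirteen` : a finite module of exponent 5 without fixed vectors of elements of order 7 and 13 is 0.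
-/

set_option autoImplicit false
set_option maxRecDepth 100000

namespace Cfsg.Agent.H380.UF

open Matrix Cfsg.Agent.H422.Recur
open Cfsg.Agent.H413.U45.ASeven (A7 perm cA xA yA)
open Cfsg.Agent.H380.UF.ASevenFive (aA)
open Cfsg.Agent.Lib.AltCarmichael (Rel cyc cyc_mem exists_hom)

def t0 : M4 := !![⟨2, 2⟩, ⟨0, 0⟩, ⟨0, 0⟩, ⟨0, 0⟩; ⟨0, 0⟩, ⟨2, 2⟩, ⟨0, 0⟩, ⟨0, 0⟩; ⟨0, 0⟩, ⟨0, 0⟩, ⟨2, 3⟩, ⟨0, 0⟩; ⟨0, 0⟩, ⟨0, 0⟩, ⟨0, 0⟩, ⟨2, 3⟩]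
def t1 : M4 := !![⟨2, 4⟩, ⟨0, 0⟩, ⟨0, 0⟩, ⟨1, 4⟩; ⟨0, 0⟩, ⟨2, 4⟩, ⟨4, 1⟩, ⟨0, 0⟩; ⟨0, 0⟩, ⟨1, 1⟩, ⟨2, 1⟩, ⟨0, 0⟩; ⟨4, 4⟩, ⟨0, 0⟩, ⟨0, 0⟩, ⟨2, 1⟩]
def t2 : M4 := !![⟨2, 4⟩, ⟨0, 0⟩, ⟨0, 2⟩, ⟨0, 3⟩; ⟨0, 0⟩, ⟨2, 4⟩, ⟨2, 1⟩, ⟨2, 1⟩; ⟨0, 2⟩, ⟨3, 1⟩, ⟨2, 1⟩, ⟨0, 0⟩; ⟨0, 3⟩, ⟨3, 1⟩, ⟨0, 0⟩, ⟨2, 1⟩]
def t3 : M4 := !![⟨2, 4⟩, ⟨0, 0⟩, ⟨1, 3⟩, ⟨2, 2⟩; ⟨0, 0⟩, ⟨2, 4⟩, ⟨4, 0⟩, ⟨0, 1⟩; ⟨4, 3⟩, ⟨1, 0⟩, ⟨2, 1⟩, ⟨0, 0⟩; ⟨3, 2⟩, ⟨0, 1⟩, ⟨0, 0⟩, ⟨2, 1⟩]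
def t4 : M4 := !![⟨2, 4⟩, ⟨0, 0⟩, ⟨2, 4⟩, ⟨0, 3⟩; ⟨0, 0⟩, ⟨2, 4⟩, ⟨2, 1⟩, ⟨3, 1⟩; ⟨3, 4⟩, ⟨3, 1⟩, ⟨2, 1⟩, ⟨0, 0⟩; ⟨0, 3⟩, ⟨2, 1⟩, ⟨0, 0⟩, ⟨2, 1⟩]
def ps1 : M4 := !![⟨0, 2⟩, ⟨2, 4⟩, ⟨3, 2⟩, ⟨2, 3⟩; ⟨3, 4⟩, ⟨0, 0⟩, ⟨4, 2⟩, ⟨2, 2⟩; ⟨2, 2⟩, ⟨1, 2⟩, ⟨0, 0⟩, ⟨3, 4⟩; ⟨3, 3⟩, ⟨3, 2⟩, ⟨2, 4⟩, ⟨0, 3⟩]
def ps2 : M4 := !![⟨2, 1⟩, ⟨1, 1⟩, ⟨0, 2⟩, ⟨4, 3⟩; ⟨3, 4⟩, ⟨1, 3⟩, ⟨3, 4⟩, ⟨2, 0⟩; ⟨4, 1⟩, ⟨0, 3⟩, ⟨4, 4⟩, ⟨2, 2⟩; ⟨4, 2⟩, ⟨2, 4⟩, ⟨4, 3⟩, ⟨4, 2⟩]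
def ps3 : M4 := !![⟨3, 1⟩, ⟨1, 4⟩, ⟨2, 4⟩, ⟨1, 3⟩; ⟨2, 4⟩, ⟨4, 3⟩, ⟨0, 2⟩, ⟨4, 1⟩; ⟨2, 0⟩, ⟨2, 1⟩, ⟨2, 0⟩, ⟨1, 0⟩; ⟨1, 2⟩, ⟨0, 2⟩, ⟨1, 3⟩, ⟨0, 1⟩]
def pu1 : M4 := !![⟨0, 0⟩, ⟨0, 3⟩, ⟨3, 4⟩, ⟨0, 2⟩; ⟨0, 3⟩, ⟨0, 2⟩, ⟨3, 4⟩, ⟨0, 0⟩; ⟨2, 4⟩, ⟨2, 4⟩, ⟨0, 0⟩, ⟨2, 4⟩; ⟨0, 2⟩, ⟨0, 0⟩, ⟨3, 4⟩, ⟨0, 3⟩]
def pv1 : M4 := !![⟨0, 2⟩, ⟨0, 0⟩, ⟨2, 4⟩, ⟨3, 1⟩; ⟨0, 0⟩, ⟨0, 2⟩, ⟨0, 3⟩, ⟨0, 3⟩; ⟨3, 4⟩, ⟨0, 3⟩, ⟨0, 3⟩, ⟨0, 0⟩; ⟨2, 1⟩, ⟨0, 3⟩, ⟨0, 0⟩, ⟨0, 3⟩]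
def mc : M4 := !![⟨3, 1⟩, ⟨0, 3⟩, ⟨0, 0⟩, ⟨3, 1⟩; ⟨3, 1⟩, ⟨0, 2⟩, ⟨3, 4⟩, ⟨0, 0⟩; ⟨3, 3⟩, ⟨2, 3⟩, ⟨3, 0⟩, ⟨0, 0⟩; ⟨2, 2⟩, ⟨2, 3⟩, ⟨0, 0⟩, ⟨1, 1⟩]
def ma : M4 := !![⟨0, 1⟩, ⟨2, 3⟩, ⟨4, 2⟩, ⟨1, 4⟩; ⟨3, 3⟩, ⟨0, 4⟩, ⟨1, 4⟩, ⟨0, 1⟩; ⟨1, 2⟩, ⟨4, 4⟩, ⟨0, 1⟩, ⟨3, 3⟩; ⟨4, 4⟩, ⟨0, 1⟩, ⟨2, 3⟩, ⟨0, 4⟩]
def mg : M4 := !![⟨3, 4⟩, ⟨0, 0⟩, ⟨3, 0⟩, ⟨0, 0⟩; ⟨4, 1⟩, ⟨0, 0⟩, ⟨2, 1⟩, ⟨0, 0⟩; ⟨0, 0⟩, ⟨3, 3⟩, ⟨0, 0⟩, ⟨0, 0⟩; ⟨0, 0⟩, ⟨0, 0⟩, ⟨0, 0⟩, ⟨1, 0⟩]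
def my : M4 := !![⟨1, 2⟩, ⟨3, 4⟩, ⟨2, 0⟩, ⟨2, 1⟩; ⟨0, 0⟩, ⟨2, 0⟩, ⟨4, 3⟩, ⟨3, 0⟩; ⟨0, 4⟩, ⟨2, 4⟩, ⟨4, 4⟩, ⟨3, 1⟩; ⟨0, 0⟩, ⟨0, 4⟩, ⟨0, 0⟩, ⟨0, 4⟩]
def my_2 : M4 := !![⟨4, 2⟩, ⟨2, 4⟩, ⟨1, 2⟩, ⟨4, 2⟩; ⟨4, 1⟩, ⟨1, 4⟩, ⟨3, 4⟩, ⟨4, 0⟩; ⟨3, 0⟩, ⟨4, 1⟩, ⟨0, 2⟩, ⟨2, 3⟩; ⟨0, 0⟩, ⟨2, 3⟩, ⟨4, 1⟩, ⟨2, 2⟩]
def my_3 : M4 := !![⟨3, 4⟩, ⟨1, 4⟩, ⟨0, 3⟩, ⟨1, 3⟩; ⟨0, 1⟩, ⟨0, 3⟩, ⟨0, 4⟩, ⟨0, 4⟩; ⟨4, 1⟩, ⟨2, 1⟩, ⟨4, 4⟩, ⟨1, 0⟩; ⟨3, 1⟩, ⟨1, 2⟩, ⟨0, 3⟩, ⟨1, 4⟩]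

/-- lifts of the 3-cycles `(i 5 6)` -/
def TT : ℕ → SU4
  | 0 => mk t0 (by decide +kernel) (by decide +kernel)
  | 1 => mk t1 (by decide +kernel) (by decide +kernel)
  | 2 => mk t2 (by decide +kernel) (by decide +kernel)
  | 3 => mk t3 (by decide +kernel) (by decide +kernel)
  | _ => mk t4 (by decide +kernel) (by decide +kernel)

theorem cube_of {g : SU4} (h : mat g * mat g * mat g = 1) : pr g ^ 3 = 1 := by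
  have : g ^ 3 = 1 := by
    apply mat_inj
    rw [mat_pow, pow_succ, pow_two]
    exact h
  rw [← map_pow, this, map_one]

theorem sq_of {g k : SU4} (h : mat g * mat k * (mat g * mat k) = (-1 : FQ) • (1 : M4)) : (pr g * pr k) ^ 2 = 1 := by
  rw [← map_mul, ← map_pow]
  refine (QuotientGroup.eq_one_iff _).2 (mem_center (r := -1) ?_)
  rw [mat_pow, mat_mul, pow_two]
  exact h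

theorem rel_TT : Rel 5 (fun i => pr (TT i)) where
  cube := by
    intro i hi
    interval_cases i <;> exact cube_of (by decide +kernel)
  sq := by
    intro i hi j hj hij
    interval_cases i <;> interval_cases j <;> first
      | exact absurd rfl hij
      | exact sq_of (by decide +kernel)

/-- the homomorphism from `A₇` -/
noncomputable def phi7 : A7 →* U4 := (exists_hom (m := 5) (by norm_num) rel_TT).choose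

/-- the Carmichael generators -/
def cg (i : ℕ) (hi : i < 5) : A7 := ⟨cyc 5 i, cyc_mem 5 i hi⟩

theorem phi7_cg (i : ℕ) (hi : i < 5) : phi7 (cg i hi) = pr (TT i) :=
  (exists_hom (m := 5) (by norm_num) rel_TT).choose_spec i hi

theorem word_c : cA = cg 4 (by norm_num) * cg 2 (by norm_num) * (cg 3 (by norm_num) * cg 1 (by norm_num) *
    cg 2 (by norm_num) * cg 0 (by norm_num)) := Subtype.ext (by decide +kernel)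

theorem word_a : aA = cg 2 (by norm_num) * cg 0 (by norm_num) * (cg 3 (by norm_num) * cg 1 (by norm_num) *
    cg 2 (by norm_num) * cg 0 (by norm_num)) := Subtype.ext (by decide +kernel)

theorem mps : mat (TT 3 * TT 1 * TT 2 * TT 0) = ps3 := by
  rw [mat_mul, mat_mul, mat_mul]
  have h1 : mat (TT 3) * mat (TT 1) = ps1 := by decide +kernel
  have h2 : ps1 * mat (TT 2) = ps2 := by decide +kernel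
  have h3 : ps2 * mat (TT 0) = ps3 := by decide +kernel
  rw [h1, h2, h3]

theorem mmc : mat (TT 4 * TT 2 * (TT 3 * TT 1 * TT 2 * TT 0)) = mc := by
  rw [mat_mul, mps, mat_mul]
  have h1 : mat (TT 4) * mat (TT 2) = pu1 := by decide +kernel
  have h2 : pu1 * ps3 = mc := by decide +kernel
  rw [h1, h2]

theorem mma : mat (TT 2 * TT 0 * (TT 3 * TT 1 * TT 2 * TT 0)) = ma := by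
  rw [mat_mul, mps, mat_mul]
  have h1 : mat (TT 2) * mat (TT 0) = pv1 := by decide +kernel
  have h2 : pv1 * ps3 = ma := by decide +kernel
  rw [h1, h2]

theorem phi7_c : phi7 cA = pr (TT 4 * TT 2 * (TT 3 * TT 1 * TT 2 * TT 0)) := by
  rw [word_c]
  simp only [map_mul, phi7_cg]

theorem phi7_a : phi7 aA = pr (TT 2 * TT 0 * (TT 3 * TT 1 * TT 2 * TT 0)) := by
  rw [word_a]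
  simp only [map_mul, phi7_cg]

theorem order_phi7_c : orderOf (phi7 cA) = 7 := by
  have : Fact (Nat.Prime 7) := ⟨by norm_num⟩
  refine orderOf_eq_prime ?_ ?_
  · rw [← map_pow, ASevenFive.c_seven, map_one]
  · rw [phi7_c]
    intro h
    obtain ⟨c, hc⟩ := pr_scalar h
    rw [mmc] at hc
    exact (show NS mc by decide +kernel).ne hc

theorem phi7_injective : Function.Injective phi7 := by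
  have hs : IsSimpleGroup A7 := alternatingGroup.isSimpleGroup (by simp)
  rw [← MonoidHom.ker_eq_bot_iff]
  refine (hs.eq_bot_or_eq_top_of_normal _ inferInstance).resolve_right ?_
  intro h
  have h1 : cA ∈ phi7.ker := by rw [h]; exact Subgroup.mem_top _
  have h2 := order_phi7_c
  rw [MonoidHom.mem_ker.1 h1, orderOf_one] at h2
  norm_num at h2

/-- the element conjugating the involution -/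
def gG : SU4 := mk mg (by decide +kernel) (by decide +kernel)
/-- an element of order 13 inverted by the involution -/
def gY : SU4 := mk my (by decide +kernel) (by decide +kernel)

theorem order_Y : orderOf (pr gY) = 13 := by
  refine order_pr (a := ⟨2, 0⟩) (b := ⟨4, 0⟩) (c := ⟨2, 0⟩) (d := ⟨4, 0⟩) (M2 := my_2) (M3 := my_3)
    (by decide +kernel) (by decide +kernel) (by decide +kernel) (by norm_num) (by decide +kernel) ?_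
  rw [pf13]; decide +kernel

/-- `a (g a g⁻¹) = y` -/
theorem a_conj : phi7 aA * (pr gG * phi7 aA * (pr gG)⁻¹) = pr gY := by
  have h : ∀ r : SU4, mat r = ma → r * (gG * r) = gY * gG := by
    intro r hr
    apply mat_inj
    rw [mat_mul, mat_mul, mat_mul, hr]
    change ma * (mg * ma) = my * mg
    decide +kernel
  rw [phi7_a, ← mul_assoc, mul_inv_eq_iff_eq_mul, ← map_mul, ← map_mul, ← map_mul, h _ mma]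

/-- **Modules in characteristic 5.** -/
theorem eq_zero_of_seven_thirteen {V : Type*} [AddCommGroup V] [Finite V] (ρ : U4 →* AddMonoid.End V)
    (h5 : ∀ v : V, 5 • v = 0) (h7 : ∀ g, orderOf g = 7 → ∀ v : V, ρ g v = v → v = 0)
    (h13 : ∀ g, orderOf g = 13 → ∀ v : V, ρ g v = v → v = 0) (v : V) : v = 0 := by
  refine ASevenFive.main (ρ := ρ.comp phi7) h5 (h7 _ order_phi7_c) ?_ v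
  set a := phi7 aA with ha
  set g := pr gG with hg
  let f : ASevenFive.fx (ρ.comp phi7) aA × ASevenFive.fx (ρ.comp phi7) aA → V := fun p => p.1.1 + ρ g p.2.1
  have hf : Function.Injective f := by
    rintro ⟨⟨u, hu⟩, ⟨w, hw⟩⟩ ⟨⟨u', hu'⟩, ⟨w', hw'⟩⟩ h
    have h1 : u + ρ g w = u' + ρ g w' := h
    have e1 : ρ a u = u := hu
    have e2 : ρ a w = w := hw
    have e3 : ρ a u' = u' := hu'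
    have e4 : ρ a w' = w' := hw'
    have hm : ∀ (s t : U4) (x : V), ρ (s * t) x = ρ s (ρ t x) := fun s t x => by rw [map_mul]; rfl
    have h2 : u - u' = 0 := by
      apply h13 _ order_Y
      rw [← a_conj, ← ha, ← hg]
      have h3 : u - u' = ρ g (w' - w) := by
        rw [map_sub]
        rw [sub_eq_sub_iff_add_eq_add, h1, add_comm]
      have h4 : ρ (g * a * g⁻¹) (u - u') = u - u' := by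
        rw [h3, ← hm, inv_mul_cancel_right, hm, map_sub, e4, e2]
      rw [hm, h4, map_sub, e1, e3]
    have h3 : u = u' := sub_eq_zero.1 h2
    have h4 : ρ g w = ρ g w' := by
      rw [h3] at h1
      exact add_left_cancel h1
    have h5 : w = w' := by
      have := congrArg (ρ g⁻¹) h4
      rw [← hm, ← hm, inv_mul_cancel, map_one] at this
      exact this
    simp only [h3, h5]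
  have h1 := Nat.card_le_card_of_injective f hf
  rw [Nat.card_prod] at h1
  rw [pow_two]
  exact h1

end Cfsg.Agent.H380.UF
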