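import Cfsg.Agent.H380.UF.AutLib
import Cfsg.Agent.H829.FieldTypes
import Cfsg.Agent.H161.G2Main
import Cfsg.Agent.S2664
import Cfsg.Agent.S2121
import Cfsg.Agent.S1059
import Cfsg.Agent.OrdDiv.Main

/-!
# `Aut(G₂(4))` has no elements of order 26
-/

set_option autoImplicit false

namespace Cfsg.Agent.H380.UF.AutG2

open CoxeterSystem Cfsg.Agent.ChevalleyStructure.CoxeterGeom Cfsg.Agent.Tits.Roots Cfsg.Agent.Tits.Core
  Cfsg.Agent.Nodes.Reps Cfsg.Agent.Nodes.BNOf Cfsg.Agent.Nodes.Bruhat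
  Cfsg.Agent.Nodes.OppDec Cfsg.Agent.Nodes.RGDChev
  Cfsg.Agent.KFacts.RgdAut Cfsg.Agent.KFacts.RgdDiag Cfsg.Agent.KFacts.RgdRigid
  Cfsg.Agent.KFacts.RgdField Cfsg.Agent.KFacts.RgdTau Cfsg.Agent.KFacts.RgdChevCoord
  Cfsg.Agent.CpAut.RgdFix Cfsg.Agent.CpAut.RgdCoh Cfsg.Agent.CpAut.RgdConj Cfsg.Agent.CpAut.RgdSub
open Cfsg Cfsg.Lie Cfsg.Agent.ChevalleyStructure Cfsg.Agent.ChevalleyStructure.Elts
  Cfsg.Agent.ChevalleyStructure.NPerm Cfsg.Agent.ChevalleyStructure.CoxeterGeomTypes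
  Cfsg.Agent.ChevStructure.FieldMap Cfsg.Agent.CpAut.RgdUntw Cfsg.Agent.H380.UF.AutLib
  Cfsg.Agent.H829.FieldTwo

universe u

/-- `G₂(4)` has no elements of order 26. -/
theorem no26_g2 {F : Type*} [Field F] [Fintype F] (hF : Fintype.card F = 4) (g : ↥(chevG2.group F)) :
    orderOf g ≠ 26 := by
  intro h
  have : Fact (Nat.Prime 2) := ⟨Nat.prime_two⟩
  obtain ⟨N, h1, h2⟩ := Cfsg.Agent.H161.G2Main.upper (p := 2) (n := 2) (hF.trans (by norm_num)) (by norm_num) ⟨g, rfl⟩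
  rw [h] at h1
  rcases h2 with h2 | h2 | h2 | h2 | h2 | ⟨-, h2 | h2⟩ | ⟨h2 | h2, -⟩
  · rw [h2] at h1; norm_num at h1
  · rw [h2] at h1; norm_num at h1
  · rw [h2] at h1; norm_num at h1
  · rw [h2] at h1; norm_num at h1
  · rw [h2] at h1; norm_num at h1
  · rw [h2] at h1; norm_num at h1
  · rw [h2] at h1; norm_num at h1
  · norm_num at h2
  · norm_num at h2

/-- the standard field automorphisms are field automorphisms. -/
theorem isFieldAut_fld {F : Type*} [Field F] (τ : F ≃+* F) : chevG2.IsFieldAut (fld chevG2 τ) := by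
  refine ⟨τ, fun g r t _ h => ?_⟩
  rw [fld_coe, h]
  exact x_map chevG2 (τ : F →+* F) r t

theorem fld_inj {F : Type u} [Field F] {τ : F ≃+* F} (h : fld chevG2 τ = 1) : τ = 1 := by
  apply RingEquiv.ext
  intro a
  have hr : 0 < chevG2.nroots := by decide
  have h1 := congrArg (fun φ : MulAut ↥(chevG2.group F) => φ (xc isType_G2 (vec chevG2 2 0) a)) h
  simp only [MulAut.one_apply] at h1
  rw [fld_xc isType_G2 τ hr] at h1
  have h2 := congrArg Subtype.val h1
  rw [coe_xc isType_G2 hr, coe_xc isType_G2 hr] at h2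
  exact xG_injective (F := F) (isType_G2.inList) hr h2

/-- the fixed points of an automorphism of field type do not contain elements of order 13 (`q = 4`). -/
theorem field_no13 {F : Type u} [Field F] [Fintype F] (hF : Fintype.card F = 4) {ψ : MulAut ↥(chevG2.group F)}
    (h : FieldType chevG2 F ψ) (y : ↥(chevG2.group F)) (hy : orderOf y = 13) : ψ y ≠ y := by
  intro hfix
  obtain ⟨τ, hτ2, hτ1, ⟨e, he⟩, -⟩ := h
  have hfl2 : fld chevG2 τ ^ 2 = 1 := by rw [← fld_pow, hτ2, fld_one]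
  have hfl1 : fld chevG2 τ ≠ 1 := by
    intro h1
    rw [h1, mul_one, mul_inv_cancel] at he
    -- `fld` is injective: use the order of the fixed points
    have h2 : orderOf (fld chevG2 τ) = 1 := by rw [h1, orderOf_one]
    exact hτ1 (fld_inj h1)
  have ho : orderOf (fld chevG2 τ) = 2 := orderOf_eq_prime (hp := ⟨Nat.prime_two⟩) hfl2 hfl1
  obtain ⟨F₀, _, _, hF₀, ⟨f⟩⟩ := Cfsg.Agent.S2664.result (fld chevG2 τ) (isFieldAut_fld τ) 2 Nat.prime_two ho
  have hq : Fintype.card F₀ = 2 := by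
    rw [hF] at hF₀
    have h1 : Fintype.card F₀ ^ 2 = 2 ^ 2 := hF₀.symm.trans (by norm_num)
    exact Nat.pow_left_injective (n := 2) (by norm_num) h1
  have hc := Cfsg.Agent.S1059.result (F := F₀) hq
  have hmem : e⁻¹ y ∈ (MulEquiv.toMonoidHom (fld chevG2 τ)).eqLocus (MonoidHom.id ↥(chevG2.group F)) := by
    change fld chevG2 τ (e⁻¹ y) = e⁻¹ y
    rw [he, MulAut.mul_apply, MulAut.mul_apply] at hfix
    have h1 := congrArg (fun z => e⁻¹ z) hfix
    simp only [MulAut.inv_apply_self] at h1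
    exact h1
  have h1 := orderOf_dvd_natCard (f ⟨e⁻¹ y, hmem⟩)
  rw [MulEquiv.orderOf_eq, Subgroup.orderOf_mk, MulEquiv.orderOf_eq, hy, hc] at h1
  norm_num at h1

/-- only `2` divides `|Out(G₂(4))|`. -/
theorem not_dvd_index {X : Type u} [Group X] [Finite X] (S : Subgroup X) [S.Normal]
    (hS : Cfsg.Agent.OrdDiv.Real (.g2 4) S) (hC : Subgroup.centralizer (S : Set X) = ⊥) {p : ℕ} (hp : p.Prime)
    (hp2 : p ≠ 2) : ¬ p ∣ S.index := by
  obtain ⟨F, _, _, hF, ⟨e⟩⟩ := hS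
  have : Fact (Nat.Prime 2) := ⟨Nat.prime_two⟩
  have hF' : Fintype.card F = 2 ^ 2 := hF.trans (by norm_num)
  have : CharP F 2 := charP_of_card_eq_prime_pow hF'
  have hout : Nat.card (Cfsg.Out ↥(chevG2.group F)) = 2 := by
    rw [Cfsg.Agent.S2121.result 2 2 hF' (by norm_num), if_neg (by norm_num)]
  exact AutLib.not_dvd_index S hp (fun x => AutLib.pow_mem S e hC hout x)
    (fun h => hp2 ((Nat.prime_dvd_prime_iff_eq hp Nat.prime_two).1 h))

/-- **`Aut(G₂(4))` has no elements of order 26.** -/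
theorem no26 {X : Type u} [Group X] [Finite X] (S : Subgroup X) [S.Normal] (hS : Cfsg.Agent.OrdDiv.Real (.g2 4) S)
    (hC : Subgroup.centralizer (S : Set X) = ⊥) (x : X) : orderOf x ≠ 26 := by
  intro hx
  obtain ⟨F, _, _, hF, ⟨e⟩⟩ := hS
  have : Fact (Nat.Prime 2) := ⟨Nat.prime_two⟩
  have hF' : Fintype.card F = 2 ^ 2 := hF.trans (by norm_num)
  have : CharP F 2 := charP_of_card_eq_prime_pow hF'
  have hout : Nat.card (Cfsg.Out ↥(chevG2.group F)) = 2 := by
    rw [Cfsg.Agent.S2121.result 2 2 hF' (by norm_num), if_neg (by norm_num)]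
  have ho13 : orderOf (x ^ 2) = 13 := by
    rw [orderOf_pow' x (by norm_num), hx]
    norm_num
  have ho2 : orderOf (x ^ 13) = 2 := by
    rw [orderOf_pow' x (by norm_num), hx]
    norm_num
  have hyS : x ^ 2 ∈ S := AutLib.pow_mem S e hC hout x
  have hcomm : x ^ 13 * x ^ 2 = x ^ 2 * x ^ 13 := by rw [← pow_add, ← pow_add, add_comm]
  have hfix := act_fix S e hyS hcomm
  have hoe : orderOf (e ⟨x ^ 2, hyS⟩) = 13 := by
    rw [MulEquiv.orderOf_eq, Subgroup.orderOf_mk, ho13]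
  have hψ2 : AutLib.act S e (x ^ 13) ^ 2 = 1 := by
    rw [← act_pow]
    have h1 : (x ^ 13) ^ 2 = 1 := by rw [← ho2, pow_orderOf_eq_one]
    rw [h1]
    unfold AutLib.act
    rw [map_one, map_one]
  have hK : ∃ a : F, a ≠ 0 ∧ a ≠ 1 := by
    classical
    by_contra hcon
    push Not at hcon
    have h1 : Fintype.card F ≤ 2 := by
      have h2 : (Finset.univ : Finset F) ⊆ {0, 1} := by
        intro a _
        by_cases ha : a = 0
        · simp [ha]
        · simp [hcon a ha]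
      exact (Finset.card_le_card h2).trans Finset.card_le_two
    omega
  rcases field_G2 hK hψ2 with ⟨g, hg⟩ | h
  · have h1 := mem_of_inner S e hC hg
    have h2 : x ∈ S := by
      have h3 : x = x ^ 13 * ((x ^ 2) ^ 6)⁻¹ := by
        rw [← pow_mul, eq_mul_inv_iff_mul_eq, ← pow_succ']
      rw [h3]
      exact S.mul_mem h1 (S.inv_mem (S.pow_mem hyS 6))
    apply no26_g2 hF (e ⟨x, h2⟩)
    rw [MulEquiv.orderOf_eq, Subgroup.orderOf_mk, hx]
  · exact field_no13 hF h _ hoe hfix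

end Cfsg.Agent.H380.UF.AutG2
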