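import Cfsg.Agent.H380.UF.AutLib
import Cfsg.Agent.S0243
import Cfsg.Agent.S0813
import Cfsg.Agent.ClassicalGeometry.PSL2Basic
import Cfsg.Agent.OrdDiv.Main

/-!
# `|Out(PSL₂(13))| ∣ 2`
-/

set_option autoImplicit false

namespace Cfsg.Agent.H380.UF.AutL13

open Cfsg Matrix Cfsg.Agent.H380.UF

universe u

theorem index_dvd {X : Type u} [Group X] [Finite X] (S : Subgroup X) [S.Normal]
    (hS : Cfsg.Agent.OrdDiv.Real (.psl 2 13) S) (hC : Subgroup.centralizer (S : Set X) = ⊥) : S.index ∣ 2 := by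
  obtain ⟨F, _, _, hF, ⟨e⟩⟩ := hS
  have : Fact (Nat.Prime 13) := ⟨by norm_num⟩
  have hfin : Finite (ProjectiveSpecialLinearGroup (Fin 2) F) := by
    unfold ProjectiveSpecialLinearGroup
    infer_instance
  have h1 := AutLib.card_dvd S e hC
  have h2 := Cfsg.Agent.S0813.result (F := F) 13 1 le_rfl (hF.trans (by norm_num)) 2 le_rfl (fun _ => by norm_num)
  rw [if_pos rfl, one_mul, one_mul] at h2
  have h3 : Nat.card (ProjGenLinGroup (Fin 2) F) * (Fintype.card F - 1) = Nat.card (GL (Fin 2) F) :=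
    Cfsg.Agent.ClassicalGeometry.PSL2Basic.card_PGL_mul (Fin 2) F
  rw [Matrix.card_GL_field, hF] at h3
  have h4 : Nat.card (ProjGenLinGroup (Fin 2) F) = 2184 := by
    rw [Fin.prod_univ_two] at h3
    norm_num at h3
    omega
  have h5 : Nat.card S = 1092 := by
    have h6 := Cfsg.Agent.S0243.result (F := F) hF 2 le_rfl
    rw [← Nat.card_congr e.toEquiv, Fin.prod_univ_two] at h6
    norm_num at h6
    omega
  rw [h2, h4, h5] at h1
  exact Nat.dvd_of_mul_dvd_mul_left (by norm_num) (by simpa using h1 : 1092 * S.index ∣ 1092 * 2)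

end Cfsg.Agent.H380.UF.AutL13
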