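import Mathlib
import Cfsg.Prelude.Def_KGroupFacts

/-!
# Conjugation on a normal subgroup with trivial centralizer
-/

set_option autoImplicit false

namespace Cfsg.Agent.H380.UF.AutLib

universe u v

variable {X : Type u} [Group X] (S : Subgroup X) [S.Normal] {Y : Type v} [Group Y] (e : S ≃* Y)

/-- conjugation by `x`, seen on `Y ≃* S`. -/
def act (x : X) : MulAut Y := MulAut.congr e (MulAut.conjNormal x)

theorem act_pow (x : X) (n : ℕ) : act S e (x ^ n) = act S e x ^ n := by
  unfold act
  rw [map_pow, map_pow]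

theorem act_apply (x : X) (s : S) : act S e x (e s) = e (MulAut.conjNormal x s) := by
  unfold act
  rw [MulAut.congr_apply]
  simp

theorem act_fix {x y : X} (hy : y ∈ S) (h : x * y = y * x) : act S e x (e ⟨y, hy⟩) = e ⟨y, hy⟩ := by
  rw [act_apply]
  congr 1
  apply Subtype.ext
  rw [MulAut.conjNormal_apply]
  change x * y * x⁻¹ = y
  rw [h, mul_inv_cancel_right]

/-- if `x` induces an inner automorphism then `x ∈ S`. -/
theorem mem_of_inner (hC : Subgroup.centralizer (S : Set X) = ⊥) {x : X} {g : Y}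
    (h : act S e x = MulAut.conj g) : x ∈ S := by
  have h1 : ((e.symm g : S) : X)⁻¹ * x ∈ Subgroup.centralizer (S : Set X) := by
    rw [Subgroup.mem_centralizer_iff]
    intro s hs
    have h2 := act_apply S e x ⟨s, hs⟩
    rw [h, MulAut.conj_apply] at h2
    have h3 : e.symm g * ⟨s, hs⟩ * (e.symm g)⁻¹ = MulAut.conjNormal x ⟨s, hs⟩ := by
      apply e.injective
      rw [← h2, map_mul, map_mul, map_inv, e.apply_symm_apply]
    have h4 := congrArg (fun t : S => (t : X)) h3
    simp only [MulAut.conjNormal_apply, Subgroup.coe_mul, Subgroup.coe_inv] at h4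
    have h5 : s * ((e.symm g : S) : X)⁻¹ = ((e.symm g : S) : X)⁻¹ * (x * s * x⁻¹) := by
      rw [← h4]; group
    calc s * (((e.symm g : S) : X)⁻¹ * x) = (s * ((e.symm g : S) : X)⁻¹) * x := by group
      _ = ((e.symm g : S) : X)⁻¹ * (x * s * x⁻¹) * x := by rw [h5]
      _ = ((e.symm g : S) : X)⁻¹ * x * s := by group
  rw [hC, Subgroup.mem_bot] at h1
  have h2 : x = ((e.symm g : S) : X) := by
    rw [inv_mul_eq_one] at h1
    exact h1.symm
  rw [h2]
  exact (e.symm g).2

include e in
/-- if `|Out Y| = n` then `x ^ n ∈ S`. -/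
theorem pow_mem (hC : Subgroup.centralizer (S : Set X) = ⊥) {n : ℕ} (hn : Nat.card (Cfsg.Out Y) = n) (x : X) :
    x ^ n ∈ S := by
  have h1 : act S e x ^ (Cfsg.Inn Y).index ∈ Cfsg.Inn Y := Subgroup.pow_index_mem _ _
  have h2 : (Cfsg.Inn Y).index = n := hn
  rw [h2, ← act_pow] at h1
  obtain ⟨g, hg⟩ := h1
  exact mem_of_inner S e hC hg.symm

include e in
/-- `|X| ∣ |Aut Y|`. -/
theorem card_dvd [Finite X] [Finite Y] (hC : Subgroup.centralizer (S : Set X) = ⊥) :
    Nat.card S * S.index ∣ Nat.card (MulAut Y) := by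
  have hfin : Finite (MulAut Y) := Finite.of_injective (fun f : MulAut Y => (f : Y → Y)) DFunLike.coe_injective
  rw [Subgroup.card_mul_index]
  let f : X →* MulAut Y := (MulAut.congr e).toMonoidHom.comp MulAut.conjNormal
  have hf : Function.Injective f := by
    rw [injective_iff_map_eq_one]
    intro x hx
    have h1 : (MulAut.conjNormal x : MulAut S) = 1 := (MulAut.congr e).injective (by rw [map_one]; exact hx)
    have h2 : x ∈ Subgroup.centralizer (S : Set X) := by
      rw [Subgroup.mem_centralizer_iff]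
      intro s hs
      have h3 := congrArg (fun g : MulAut S => ((g ⟨s, hs⟩ : S) : X)) h1
      simp only [MulAut.conjNormal_apply, MulAut.one_apply] at h3
      have h4 : x * s * x⁻¹ = s := h3
      rw [mul_inv_eq_iff_eq_mul] at h4
      exact h4.symm
    rwa [hC, Subgroup.mem_bot] at h2
  have h5 := Subgroup.card_subgroup_dvd_card f.range
  rwa [← Nat.card_congr (MonoidHom.ofInjective hf).toEquiv] at h5

/-- if `x ^ n ∈ S` for all `x` and the prime `p` does not divide `n` then `p ∤ |X : S|`. -/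
theorem not_dvd_index [Finite X] {n p : ℕ} (hp : p.Prime) (hn : ∀ x : X, x ^ n ∈ S) (hpn : ¬ p ∣ n) :
    ¬ p ∣ S.index := by
  intro h
  have : Fact p.Prime := ⟨hp⟩
  obtain ⟨a, ha⟩ := exists_prime_orderOf_dvd_card' (G := X ⧸ S) p h
  apply hpn
  obtain ⟨x, rfl⟩ := QuotientGroup.mk_surjective a
  rw [← ha]
  apply orderOf_dvd_of_pow_eq_one
  rw [← QuotientGroup.mk_pow]
  exact (QuotientGroup.eq_one_iff _).2 (hn x)

end Cfsg.Agent.H380.UF.AutLib
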