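import Cfsg.Agent.H380.UF.Field
import Cfsg.Agent.H155.Unit
import Cfsg.Agent.H422.Recur
import Cfsg.Agent.Schreier.PSU
import Cfsg.Agent.S0280
import Cfsg.Agent.S0283

/-!
# `PSU₄(5)` over an explicit field: element orders divide 24, 52, 60 or 63 (helper380)
-/

set_option autoImplicit false

namespace Cfsg.Agent.H380.UF

open Matrix Cfsg.Agent.H422.Recur

abbrev M4 := Matrix (Fin 4) (Fin 4) FQ
abbrev SU4 := Cfsg.SU 4 FQ 5
abbrev U4 := Cfsg.PSU 4 FQ 5

/-- conjugation -/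
def cj : FQ →+* FQ where
  toFun x := ⟨x.re, -x.im⟩
  map_one' := by decide +kernel
  map_mul' := by decide +kernel
  map_zero' := by decide +kernel
  map_add' := by decide +kernel

theorem cj_pow : ∀ x : FQ, cj x = x ^ 5 := by decide +kernel

theorem cj_cj : ∀ x : FQ, cj (cj x) = x := by decide +kernel

theorem card_sq : Fintype.card FQ = 5 ^ 2 := by rw [FQ.card_FQ]; norm_num

theorem mem_SU_iff (g : Matrix.SpecialLinearGroup (Fin 4) FQ) :
    g ∈ Cfsg.SU 4 FQ 5 ↔ (g : M4)ᵀ * (g : M4).map cj = 1 :=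
  Cfsg.Agent.H155.Unit.mem_SU_iff_matrix cj cj_pow g

/-- elements of `SU₄(5)` from matrices -/
def mk (M : M4) (h : Mᵀ * M.map cj = 1) (hd : M.det = 1) : SU4 :=
  ⟨⟨M, hd⟩, (mem_SU_iff ⟨M, hd⟩).2 h⟩

def mat (g : SU4) : M4 := g.1.1

theorem mat_mk (M : M4) (h : Mᵀ * M.map cj = 1) (hd : M.det = 1) : mat (mk M h hd) = M := rfl

theorem mat_mul (a b : SU4) : mat (a * b) = mat a * mat b := rfl

theorem mat_one : mat 1 = 1 := rfl

theorem mat_inj {a b : SU4} (h : mat a = mat b) : a = b := Subtype.ext (Subtype.ext h)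

theorem mat_pow (a : SU4) (n : ℕ) : mat (a ^ n) = mat a ^ n := by
  induction n with
  | zero => rfl
  | succ n ih => rw [pow_succ, mat_mul, ih, pow_succ]

theorem mat_unit (g : SU4) : (mat g)ᵀ * (mat g).map cj = 1 := (mem_SU_iff g.1).1 g.2

theorem mat_det (g : SU4) : (mat g).det = 1 := g.1.2

theorem mem_center {g : SU4} {r : FQ} (h : mat g = r • (1 : M4)) : g ∈ Subgroup.center SU4 := by
  rw [Subgroup.mem_center_iff]
  intro y
  apply mat_inj
  rw [mat_mul, mat_mul, h, Matrix.mul_smul, Matrix.smul_mul, mul_one, one_mul]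

/-! ### Orders of elements -/

/-- constants -/
def cst (r : Fin 5) : FQ := ⟨r, 0⟩

theorem eq_cst : ∀ b : FQ, cj b = b → b = cst b.re := by decide +kernel

theorem check : ∀ a : FQ, ∀ b : Fin 5,
    ∃ k ∈ [24, 52, 60, 63], (co4 (-a) (-cst b) (-cj a) (-1) k).1 = 0 ∧ (co4 (-a) (-cst b) (-cj a) (-1) k).2.1 = 0 ∧
      (co4 (-a) (-cst b) (-cj a) (-1) k).2.2.1 = 0 := by
  decide +kernel

theorem su_pow (g : SU4) : ∃ k ∈ [24, 52, 60, 63], ∃ r : FQ, mat g ^ k = r • (1 : M4) := by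
  set X := mat g with hX
  have h1 : X.map cj * Xᵀ = 1 := mul_eq_one_comm.1 (mat_unit g)
  have h2 := coeff_inv Xᵀ (X.map cj) h1 (by rw [det_transpose]; exact mat_det g)
  have h3 : (X.map cj).charpoly = X.charpoly.map cj := Matrix.charpoly_map X cj
  rw [h3, Matrix.charpoly_transpose] at h2
  have e2 := h2 2 (by norm_num)
  have e3 := h2 3 (by norm_num)
  rw [Polynomial.coeff_map] at e2 e3
  have h4 := ch4 X
  rw [show X.det = 1 from mat_det g] at h4
  norm_num at e2 e3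
  rw [← e3, eq_cst _ e2] at h4
  obtain ⟨k, hk, a1, a2, a3⟩ := check (X.charpoly.coeff 3) (X.charpoly.coeff 2).re
  exact ⟨k, hk, scalar_co4 h4 a1 a2 a3⟩

/-- **Element orders of `PSU₄(5)`.** -/
theorem psu_pow (g : U4) : ∃ k ∈ [24, 52, 60, 63], g ^ k = 1 := by
  obtain ⟨X, rfl⟩ := QuotientGroup.mk_surjective g
  obtain ⟨k, hk, r, hr⟩ := su_pow X
  refine ⟨k, hk, ?_⟩
  rw [← QuotientGroup.mk_pow, QuotientGroup.eq_one_iff]
  exact mem_center (r := r) ((mat_pow X k).trans hr)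

theorem card_U : Nat.card U4 = 2 ^ 7 * 3 ^ 4 * 5 ^ 6 * 7 * 13 := by
  have h1 := Cfsg.Agent.S0280.result (F := FQ) (q := 5) card_sq 4 (by norm_num)
  have h2 : Nat.gcd 4 (5 + 1) = 2 := by decide
  rw [h2] at h1
  simp only [Finset.prod_range_succ, Finset.prod_range_zero] at h1
  have e0 : Even 0 := by decide
  have e1 : ¬ Even 1 := by decide
  have e2 : Even 2 := by decide
  have e3 : ¬ Even 3 := by decide
  rw [if_pos e0, if_neg e1, if_pos e2, if_neg e3] at h1
  change Nat.card (Cfsg.PSU 4 FQ 5) = _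
  generalize Nat.card (Cfsg.PSU 4 FQ 5) = n at h1 ⊢
  norm_num at h1 ⊢
  omega

instance simple_U : IsSimpleGroup U4 :=
  Cfsg.Agent.S0283.result (F := FQ) (q := 5) card_sq 4 (by norm_num) (by norm_num)

instance finite_U : Finite U4 := Nat.finite_of_card_ne_zero (by rw [card_U]; norm_num)

abbrev pr : SU4 →* U4 := QuotientGroup.mk' (Subgroup.center SU4)

theorem pr_eq_one {g : SU4} (h : pr g = 1) : g ∈ Subgroup.center SU4 := (QuotientGroup.eq_one_iff g).1 h

/-- a noncentral element -/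
theorem not_central {g y : SU4} (h : mat g * mat y ≠ mat y * mat g) : pr g ≠ 1 := by
  intro h1
  have h2 := Subgroup.mem_center_iff.1 (pr_eq_one h1) y
  apply h
  rw [← mat_mul, ← mat_mul, h2]

end Cfsg.Agent.H380.UF
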