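import Cfsg.Agent.H380.UF.Elts

/-!
# The extensions of `PSU₄(5)` (helper380)
-/

set_option autoImplicit false

namespace Cfsg.Agent.H380.UF

open Matrix Cfsg.Agent.H422.Recur Cfsg.Agent.ClassicalGeometry.PSUAutCount
open Cfsg.Agent.Schreier.PSU (f₁ f₂ mapGU conj_field f₁_eq_conj toAut_eq)

/-- inner automorphisms -/
abbrev Inn : Subgroup (MulAut U4) := (MulAut.conj : U4 →* MulAut U4).range

instance normal_Inn : Inn.Normal := by
  constructor
  rintro _ ⟨g, rfl⟩ α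
  refine ⟨α g, ?_⟩
  ext x
  simp [MulAut.conj_apply]

theorem det_cases (A : GU4) : (gm A).det ^ 3 = 1 ∨ (gm A).det ^ 3 = -1 := by
  have h := det_norm (gm_unit A)
  have : ∀ x : FQ, x * cj x = 1 → x ^ 3 = 1 ∨ x ^ 3 = -1 := by decide +kernel
  exact this _ h

theorem scale {A : GU4} (h : (gm A).det ^ 3 = 1) : ∃ B : GU4, (gm B).det = 1 ∧ lin B = lin A := by
  set d := (gm A).det with hd
  have hn : d * cj d = 1 := det_norm (gm_unit A)
  have hc : d ^ 2 * (d ^ 2) ^ 5 = 1 := by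
    have : ∀ x : FQ, x * cj x = 1 → x ^ 2 * (x ^ 2) ^ 5 = 1 := by decide +kernel
    exact this d hn
  refine ⟨sc 4 ⟨d ^ 2, hc⟩ * A, ?_, toAut_sc_mul _ _ _⟩
  rw [gm_sc_mul, det_smul, Fintype.card_fin, ← hd]
  calc (d ^ 2) ^ 4 * d = (d ^ 3) ^ 3 := by ring
    _ = 1 := by rw [h, one_pow]

theorem mem_Inn_of_det {A : GU4} (h : (gm A).det ^ 3 = 1) : lin A ∈ Inn := by
  obtain ⟨B, hB, hBA⟩ := scale h
  refine ⟨pr (mk (gm B) (gm_unit B) hB), ?_⟩
  rw [← hBA]
  exact (lin_eq_conj B _ rfl).symm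

theorem conj_eq_lin (x : U4) : ∃ A : GU4, (gm A).det = 1 ∧ MulAut.conj x = lin A := by
  obtain ⟨g, rfl⟩ := QuotientGroup.mk_surjective x
  exact ⟨mkGU (mat g) (mat_unit g), mat_det g, (lin_eq_conj _ g rfl).symm⟩

theorem det_of_mem_Inn {A : GU4} (h : lin A ∈ Inn) : (gm A).det ^ 3 = 1 := by
  obtain ⟨x, hx⟩ := h
  obtain ⟨B, hB, hB2⟩ := conj_eq_lin x
  have h1 : lin (A * B⁻¹) = 1 := by
    rw [map_mul, map_inv, ← hx, hB2, mul_inv_cancel]
  obtain ⟨c, hc⟩ := lin_eq_one h1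
  have h2 := det_norm (gm_unit (A * B⁻¹))
  have h3 : (gm (A * B⁻¹)).det = (gm A).det := by
    rw [gm_mul, det_mul]
    have : (gm B * gm B⁻¹).det = 1 := by rw [gm_mul_inv, det_one]
    rw [det_mul, hB, one_mul] at this
    rw [this, mul_one]
  have h4 : (gm A).det = c ^ 4 := by
    rw [← h3, hc, det_smul, Fintype.card_fin, det_one, mul_one]
  rw [h3] at h2
  have h5 := gm_unit (A * B⁻¹)
  rw [hc] at h5
  have h6 := congrFun (congrFun h5 0) 0
  have h7 : c * cj c = 1 := by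
    simpa [Matrix.mul_apply, Fin.sum_univ_four, Matrix.map_apply] using h6
  rw [h4]
  have : ∀ x : FQ, x * cj x = 1 → (x ^ 4) ^ 3 = 1 := by decide +kernel
  exact this c h7

theorem phi_notMem : phi ∉ Inn := by
  rintro ⟨x, hx⟩
  obtain ⟨B, -, hB2⟩ := conj_eq_lin x
  exact lin_ne_phi B (by rw [← hB2, hx])

theorem lin_phi_notMem (A : GU4) : lin A * phi ∉ Inn := by
  rintro ⟨x, hx⟩
  obtain ⟨B, -, hB2⟩ := conj_eq_lin x
  refine lin_ne_phi (A⁻¹ * B) ?_
  rw [map_mul, map_inv, ← hB2, hx, inv_mul_cancel_left]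

/-- the second outer automorphism -/
def psi : MulAut U4 := lin A40 * phi

theorem psi_sq : psi ^ 2 ∈ Inn := by
  rw [psi, sq_phi]
  refine mem_Inn_of_det ?_
  rw [gm_mul, det_mul, gm_mapGU_cje, det_A40]
  have : ((gm A40).map cj).det = -1 := by decide +kernel
  rw [this]; norm_num

theorem phi_sq' : phi ^ 2 ∈ Inn := by
  rw [pow_two, phi_sq]; exact one_mem _

/-- the quotient map to the outer automorphism group -/
abbrev out : MulAut U4 →* MulAut U4 ⧸ Inn := QuotientGroup.mk' Inn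

theorem out_eq_one {α : MulAut U4} : out α = 1 ↔ α ∈ Inn := QuotientGroup.eq_one_iff α

/-- the extension of `PSU₄(5)` by an outer automorphism -/
def Ex (τ : MulAut U4) : Subgroup (MulAut U4) := (Subgroup.zpowers (out τ)).comap out

theorem Inn_le (τ : MulAut U4) : Inn ≤ Ex τ := by
  intro α hα
  change out α ∈ Subgroup.zpowers (out τ)
  rw [out_eq_one.2 hα]
  exact one_mem _

theorem mem_Ex_self (τ : MulAut U4) : τ ∈ Ex τ := Subgroup.mem_zpowers (out τ)

theorem mem_Ex {τ : MulAut U4} (hτ : τ ^ 2 ∈ Inn) {α : MulAut U4} (h : α ∈ Ex τ) :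
    α ∈ Inn ∨ ∃ i ∈ Inn, α = i * τ := by
  obtain ⟨k, hk⟩ := Subgroup.mem_zpowers_iff.1 (show out α ∈ Subgroup.zpowers (out τ) from h)
  have h2 : out τ ^ (2 : ℤ) = 1 := by
    rw [zpow_ofNat, ← map_pow]
    exact out_eq_one.2 hτ
  rcases Int.even_or_odd' k with ⟨m, rfl | rfl⟩
  · left
    rw [_root_.zpow_mul, h2, _root_.one_zpow] at hk
    exact out_eq_one.1 hk.symm
  · right
    rw [_root_.zpow_add, _root_.zpow_mul, h2, _root_.one_zpow, one_mul, zpow_one] at hk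
    refine ⟨α * τ⁻¹, ?_, by group⟩
    rw [← out_eq_one, map_mul, map_inv, hk, mul_inv_cancel]

theorem Ex_le {τ : MulAut U4} {B : Subgroup (MulAut U4)} (hB : Inn ≤ B) (hτ2 : τ ^ 2 ∈ Inn) (hτ : τ ∈ B) : Ex τ ≤ B := by
  intro α hα
  rcases mem_Ex hτ2 hα with h | ⟨i, hi, rfl⟩
  · exact hB h
  · exact B.mul_mem (hB hi) hτ

/-- every automorphism is in one of the four cosets -/
theorem cosets (α : MulAut U4) : α ∈ Inn ∨ (∃ i ∈ Inn, α = i * lin D14) ∨ (∃ i ∈ Inn, α = i * phi) ∨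
    ∃ i ∈ Inn, α = i * psi := by
  have key : ∀ (A B : GU4), (gm A).det ^ 3 = -1 → (gm B).det = -1 → lin A * (lin B)⁻¹ ∈ Inn := by
    intro A B h h'
    rw [← map_inv, ← map_mul]
    refine mem_Inn_of_det ?_
    have : (gm B * gm B⁻¹).det = 1 := by rw [gm_mul_inv, det_one]
    rw [det_mul, h'] at this
    have h2 : (gm B⁻¹).det = -1 := by
      linear_combination -this
    rw [gm_mul, det_mul, h2, mul_pow, h]
    norm_num
  obtain ⟨A, rfl | rfl⟩ := exists_lin α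
  · rcases det_cases A with h | h
    · exact Or.inl (mem_Inn_of_det h)
    · refine Or.inr (Or.inl ⟨_, key A D14 h det_D14, ?_⟩)
      rw [inv_mul_cancel_right]
  · rcases det_cases A with h | h
    · exact Or.inr (Or.inr (Or.inl ⟨_, mem_Inn_of_det h, rfl⟩))
    · refine Or.inr (Or.inr (Or.inr ⟨_, key A A40 h det_A40, ?_⟩))
      rw [psi, ← mul_assoc, inv_mul_cancel_right]

/-- the overgroups of `Inn` without elements of order 14 -/
theorem overgroups {B : Subgroup (MulAut U4)} (hB : Inn ≤ B) (h14 : ∀ b ∈ B, orderOf b ≠ 14) :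
    B = Inn ∨ B = Ex phi ∨ B = Ex psi := by
  have hd : ∀ A : GU4, lin A ∈ B → lin A ∈ Inn := by
    intro A hA
    rcases det_cases A with h | h
    · exact mem_Inn_of_det h
    · exfalso
      have h1 : lin (A * D14⁻¹) ∈ Inn := by
        refine mem_Inn_of_det ?_
        have : (gm D14 * gm D14⁻¹).det = 1 := by rw [gm_mul_inv, det_one]
        rw [det_mul, det_D14] at this
        have h2 : (gm D14⁻¹).det = -1 := by linear_combination -this
        rw [gm_mul, det_mul, h2, mul_pow, h]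
        norm_num
      have h2 : lin D14 ∈ B := by
        have h3 := B.mul_mem (B.inv_mem (hB h1)) hA
        rw [← map_inv, ← map_mul] at h3
        have h4 : (A * D14⁻¹)⁻¹ * A = D14 := by group
        rwa [h4] at h3
      exact h14 _ h2 order_D14
  have hnd : ∀ i ∈ Inn, i * lin D14 ∉ B := by
    intro i hi h
    have h1 : lin D14 ∈ B := by
      have := B.mul_mem (B.inv_mem (hB hi)) h
      rwa [inv_mul_cancel_left] at this
    exact h14 _ h1 order_D14
  by_cases h1 : B ≤ Inn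
  · exact Or.inl (le_antisymm h1 hB)
  right
  rw [SetLike.not_le_iff_exists] at h1
  obtain ⟨β, hβ, hβ'⟩ := h1
  have hnot : ¬ (phi ∈ B ∧ psi ∈ B) := by
    rintro ⟨h1, h2⟩
    have h3 : lin A40 ∈ B := by
      have := B.mul_mem h2 (B.inv_mem h1)
      rwa [psi, mul_inv_cancel_right] at this
    have h4 := det_of_mem_Inn (hd _ h3)
    rw [det_A40] at h4
    exact absurd h4 (by decide +kernel)
  have hmem : ∀ τ, (∃ i ∈ Inn, β = i * τ) → τ ∈ B := by
    rintro τ ⟨i, hi, rfl⟩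
    have := B.mul_mem (B.inv_mem (hB hi)) hβ
    rwa [inv_mul_cancel_left] at this
  have hmem' : ∀ α ∈ B, ∀ τ, (∃ i ∈ Inn, α = i * τ) → τ ∈ B := by
    rintro α hα τ ⟨i, hi, rfl⟩
    have := B.mul_mem (B.inv_mem (hB hi)) hα
    rwa [inv_mul_cancel_left] at this
  rcases cosets β with h | ⟨i, hi, rfl⟩ | h | h
  · exact absurd h hβ'
  · exact absurd hβ (hnd i hi)
  · left
    have hphi := hmem _ h
    refine le_antisymm ?_ (Ex_le hB phi_sq' hphi)
    intro α hα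
    rcases cosets α with h | ⟨i, hi, rfl⟩ | ⟨i, hi, rfl⟩ | h
    · exact Inn_le _ h
    · exact absurd hα (hnd i hi)
    · exact (Ex phi).mul_mem (Inn_le _ hi) (mem_Ex_self _)
    · exact absurd ⟨hphi, hmem' α hα _ h⟩ hnot
  · right
    have hpsi := hmem _ h
    refine le_antisymm ?_ (Ex_le hB psi_sq hpsi)
    intro α hα
    rcases cosets α with h | ⟨i, hi, rfl⟩ | h | ⟨i, hi, rfl⟩
    · exact Inn_le _ h
    · exact absurd hα (hnd i hi)
    · exact absurd ⟨hmem' α hα _ h, hpsi⟩ hnot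
    · exact (Ex psi).mul_mem (Inn_le _ hi) (mem_Ex_self _)

/-! ### element orders -/

theorem Inn_pow {α : MulAut U4} (h : α ∈ Inn) : ∃ k ∈ [24, 52, 60, 63], α ^ k = 1 := by
  obtain ⟨x, rfl⟩ := h
  obtain ⟨k, hk, hx⟩ := psu_pow x
  exact ⟨k, hk, by rw [← map_pow, hx, map_one]⟩

theorem phi_pow {A : GU4} (hA : (gm A).det = 1) : ∃ k ∈ [24, 26, 60], (lin A * phi) ^ k = 1 := by
  obtain ⟨k, hk, r, hr⟩ := pow_det_one (gm_unit A) hA
  refine ⟨2 * k, ?_, ?_⟩
  · simp only [List.mem_cons, List.not_mem_nil, or_false] at hk ⊢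
    omega
  · rw [pow_mul, sq_phi, ← map_pow]
    refine lin_one_of_smul (c := r) ?_
    rw [gm_pow, gm_mul, gm_mapGU_cje, hr]

theorem psi_pow (A : GU4) : ∃ k ∈ [24, 26, 40, 60], (lin A * phi) ^ k = 1 := by
  obtain ⟨k, hk, r, hr⟩ := pow_gen (gm_unit A)
  refine ⟨2 * k, ?_, ?_⟩
  · simp only [List.mem_cons, List.not_mem_nil, or_false] at hk ⊢
    omega
  · rw [pow_mul, sq_phi, ← map_pow]
    refine lin_one_of_smul (c := r) ?_
    rw [gm_pow, gm_mul, gm_mapGU_cje, hr]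

theorem Ex_phi_pow {α : MulAut U4} (h : α ∈ Ex phi) : ∃ k ∈ [24, 26, 52, 60, 63], α ^ k = 1 := by
  rcases mem_Ex phi_sq' h with h | ⟨i, ⟨x, rfl⟩, rfl⟩
  · obtain ⟨k, hk, h2⟩ := Inn_pow h
    refine ⟨k, ?_, h2⟩
    simp only [List.mem_cons, List.not_mem_nil, or_false] at hk ⊢
    omega
  · obtain ⟨A, hA, hA2⟩ := conj_eq_lin x
    rw [hA2]
    obtain ⟨k, hk, h2⟩ := phi_pow hA
    refine ⟨k, ?_, h2⟩
    simp only [List.mem_cons, List.not_mem_nil, or_false] at hk ⊢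
    omega

theorem Ex_psi_pow {α : MulAut U4} (h : α ∈ Ex psi) : ∃ k ∈ [24, 26, 40, 52, 60, 63], α ^ k = 1 := by
  rcases mem_Ex psi_sq h with h | ⟨i, ⟨x, rfl⟩, rfl⟩
  · obtain ⟨k, hk, h2⟩ := Inn_pow h
    refine ⟨k, ?_, h2⟩
    simp only [List.mem_cons, List.not_mem_nil, or_false] at hk ⊢
    omega
  · obtain ⟨A, hA, hA2⟩ := conj_eq_lin x
    rw [hA2, psi, ← mul_assoc, ← map_mul]
    obtain ⟨k, hk, h2⟩ := psi_pow (A * A40)
    refine ⟨k, ?_, h2⟩
    simp only [List.mem_cons, List.not_mem_nil, or_false] at hk ⊢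
    omega

end Cfsg.Agent.H380.UF
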