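import Cfsg.Agent.H380.UF.ModThree

/-!
# Commuting pairs of elements of order 5 and 3 in `PSU₄(5)` (helper380)
-/

set_option autoImplicit false

namespace Cfsg.Agent.H380.UF

open Matrix Cfsg.Agent.H422.Recur

theorem five_A5 (v : A5) : 5 • v = 0 := by
  obtain ⟨a, b, c, d⟩ := v
  have h : ∀ r : ZMod 5, (5 : ℕ) • r = 0 := by decide
  simp only [Prod.smul_mk, h]
  rfl

theorem ne1 : (Multiplicative.ofAdd ((1, 0, 0, 0) : A5)) ≠ 1 := by decide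
theorem ne2 : (Multiplicative.ofAdd ((0, 1, 0, 0) : A5)) ≠ 1 := by decide

/-- `U4` contains an elementary abelian group of order 25 -/
theorem pair5 : ∃ x y : U4, orderOf x = 5 ∧ orderOf y = 5 ∧ x * y = y * x ∧ y ∉ Subgroup.zpowers x := by
  have hinj : Function.Injective f5 := (injective_iff_map_eq_one f5).2 fun a => f5_inj
  have hord : ∀ a : Multiplicative A5, a ≠ 1 → orderOf (f5 a) = 5 := by
    intro a ha
    have : Fact (Nat.Prime 5) := ⟨by norm_num⟩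
    rw [orderOf_injective f5 hinj]
    refine orderOf_eq_prime ?_ ha
    apply Multiplicative.toAdd.injective
    rw [toAdd_pow, toAdd_one]
    exact five_A5 _
  refine ⟨f5 (Multiplicative.ofAdd (1, 0, 0, 0)), f5 (Multiplicative.ofAdd (0, 1, 0, 0)), hord _ ne1,
    hord _ ne2, ?_, ?_⟩
  · rw [← map_mul f5, ← map_mul f5, mul_comm (Multiplicative.ofAdd _)]
  · rintro ⟨k, hk⟩
    change f5 _ ^ k = _ at hk
    rw [← map_zpow] at hk
    have h1 := congrArg Multiplicative.toAdd (hinj hk)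
    rw [toAdd_zpow, toAdd_ofAdd, toAdd_ofAdd] at h1
    have h2 := congrArg (fun v : A5 => v.2.1) h1
    simp at h2
    exact absurd h2 (by decide)

def w1 : M4 := !![⟨2, 2⟩, ⟨0, 0⟩, ⟨0, 0⟩, ⟨0, 0⟩; ⟨0, 0⟩, ⟨2, 3⟩, ⟨0, 0⟩, ⟨0, 0⟩; ⟨0, 0⟩, ⟨0, 0⟩, ⟨1, 0⟩, ⟨0, 0⟩; ⟨0, 0⟩, ⟨0, 0⟩, ⟨0, 0⟩, ⟨1, 0⟩]
def w2 : M4 := !![⟨1, 0⟩, ⟨0, 0⟩, ⟨0, 0⟩, ⟨0, 0⟩; ⟨0, 0⟩, ⟨1, 0⟩, ⟨0, 0⟩, ⟨0, 0⟩; ⟨0, 0⟩, ⟨0, 0⟩, ⟨2, 2⟩, ⟨0, 0⟩; ⟨0, 0⟩, ⟨0, 0⟩, ⟨0, 0⟩, ⟨2, 3⟩]

def k1 : SU4 := mk w1 (by decide +kernel) (by decide +kernel)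
def k2 : SU4 := mk w2 (by decide +kernel) (by decide +kernel)

/-- `U4` contains an elementary abelian group of order 9 -/
theorem pair3 : ∃ x y : U4, orderOf x = 3 ∧ orderOf y = 3 ∧ x * y = y * x ∧ y ∉ Subgroup.zpowers x := by
  have : Fact (Nat.Prime 3) := ⟨by norm_num⟩
  have h1 : k1 ^ 3 = 1 := by
    apply mat_inj
    have : w1 * w1 * w1 = 1 := by decide +kernel
    rw [mat_pow, pow_succ, pow_two]
    exact this
  have h2 : k2 ^ 3 = 1 := by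
    apply mat_inj
    have : w2 * w2 * w2 = 1 := by decide +kernel
    rw [mat_pow, pow_succ, pow_two]
    exact this
  have hne : ∀ (g : SU4), NS (mat g) → pr g ≠ 1 := by
    intro g hg h
    obtain ⟨c, hc⟩ := pr_scalar h
    exact hg.ne hc
  refine ⟨pr k1, pr k2, orderOf_eq_prime (by rw [← map_pow, h1, map_one]) (hne _ (by decide +kernel)),
    orderOf_eq_prime (by rw [← map_pow, h2, map_one]) (hne _ (by decide +kernel)), ?_, ?_⟩
  · rw [← map_mul, ← map_mul]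
    apply pr_eq_of_mat
    change w1 * w2 = w2 * w1
    decide +kernel
  · intro h
    have hf : IsOfFinOrder (pr k1) := isOfFinOrder_of_finite _
    rw [← hf.mem_powers_iff_mem_zpowers] at h
    obtain ⟨n, hn⟩ := h
    change pr k1 ^ n = pr k2 at hn
    rw [← pow_mod_orderOf, orderOf_eq_prime (p := 3) (by rw [← map_pow, h1, map_one]) (hne _ (by decide +kernel))] at hn
    have hn3 : n % 3 < 3 := Nat.mod_lt _ (by norm_num)
    have h4 : pr (k1 ^ (n % 3) * k2⁻¹) = 1 := by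
      rw [map_mul, map_pow, hn, map_inv, mul_inv_cancel]
    have h5 : pr (k1 ^ (n % 3) * k2 ^ 2) = 1 := by
      have : k2 ^ 2 = k2⁻¹ := eq_inv_of_mul_eq_one_left (by rw [← pow_succ, h2])
      rw [this, h4]
    obtain ⟨c, hc⟩ := pr_scalar h5
    rw [mat_mul, mat_pow, mat_pow] at hc
    interval_cases n % 3
    · exact (show NS (w1 ^ 0 * w2 ^ 2) by decide +kernel).ne hc
    · exact (show NS (w1 ^ 1 * w2 ^ 2) by decide +kernel).ne hc
    · exact (show NS (w1 ^ 2 * w2 ^ 2) by decide +kernel).ne hc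

end Cfsg.Agent.H380.UF
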