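import Cfsg.Agent.H380.UF.Basic
import Cfsg.Agent.ClassicalGeometry.PSUAutMain

/-!
# `GU₄(5)` and the automorphisms of `PSU₄(5)` (helper380)
-/

set_option autoImplicit false

namespace Cfsg.Agent.H380.UF

open Matrix Cfsg.Agent.H422.Recur Cfsg.Agent.ClassicalGeometry.PSUAutCount
open Cfsg.Agent.Schreier.PSU (f₁ f₂ mapGU conj_field f₁_eq_conj toAut_eq)

abbrev GU4 := Cfsg.GU 4 FQ 5

theorem herm_mat (X : M4) (u v : Fin 4 → FQ) : Cfsg.hermForm 4 FQ 5 (X *ᵥ u) (X *ᵥ v) =
    u ⬝ᵥ ((Xᵀ * X.map cj) *ᵥ (fun i => cj (v i))) := by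
  have hform : ∀ u v : Fin 4 → FQ, Cfsg.hermForm 4 FQ 5 u v = u ⬝ᵥ (fun i => cj (v i)) := by
    intro u v
    simp only [Cfsg.hermForm, dotProduct, cj_pow]
  have hmap : ∀ v : Fin 4 → FQ, (fun i => cj ((X *ᵥ v) i)) = X.map cj *ᵥ (fun i => cj (v i)) := by
    intro v
    funext i
    simp only [mulVec, dotProduct, map_sum, map_mul, Matrix.map_apply]
  rw [hform, hmap, ← Matrix.mulVec_mulVec, Matrix.dotProduct_mulVec, Matrix.dotProduct_mulVec,
    Matrix.vecMul_transpose, Matrix.dotProduct_mulVec]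

theorem herm_dot (u v : Fin 4 → FQ) : Cfsg.hermForm 4 FQ 5 u v = u ⬝ᵥ (fun i => cj (v i)) := by
  simp only [Cfsg.hermForm, dotProduct, cj_pow]

/-- elements of `GU₄(5)` from matrices -/
def mkGU (M : M4) (h : Mᵀ * M.map cj = 1) : GU4 :=
  ⟨⟨M, (M.map cj)ᵀ, by
      have := congrArg Matrix.transpose h
      rw [Matrix.transpose_mul, Matrix.transpose_transpose, Matrix.transpose_one] at this
      exact mul_eq_one_comm.1 this, by
      have := congrArg Matrix.transpose h
      rwa [Matrix.transpose_mul, Matrix.transpose_transpose, Matrix.transpose_one] at this⟩, by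
    intro u v
    exact (herm_mat M u v).trans (by rw [h, Matrix.one_mulVec, herm_dot])⟩

theorem gm_mkGU (M : M4) (h : Mᵀ * M.map cj = 1) : gm (mkGU M h) = M := rfl

theorem gm_unit (A : GU4) : (gm A)ᵀ * (gm A).map cj = 1 := by
  refine Matrix.ext fun i j => ?_
  have h1 := herm_gm A (Pi.single i 1) (Pi.single j 1)
  rw [herm_mat, herm_dot] at h1
  have h2 : (fun k => cj ((Pi.single j (1 : FQ) : Fin 4 → FQ) k)) = Pi.single j 1 := by
    funext k
    by_cases hk : k = j
    · subst hk; simp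
    · simp [Pi.single_eq_of_ne hk]
  rw [h2] at h1
  simpa [Matrix.one_apply, Pi.single_apply, eq_comm] using h1

theorem gm_pow (A : GU4) (n : ℕ) : gm (A ^ n) = gm A ^ n := by
  induction n with
  | zero => rfl
  | succ n ih => rw [pow_succ, gm_mul, ih, pow_succ]

/-- the conjugation as an automorphism of the field -/
def cje : FQ ≃+* FQ where
  toFun := cj
  invFun := cj
  left_inv := cj_cj
  right_inv := cj_cj
  map_mul' := cj.map_mul
  map_add' := cj.map_add

theorem cje_apply (x : FQ) : cje x = cj x := rfl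

theorem gm_mapGU_cje (A : GU4) : gm (mapGU cje A) = (gm A).map cj := rfl

theorem cje_mul : cje * cje = 1 := RingEquiv.ext fun x => cj_cj x

theorem cje_ne : cje ≠ 1 := by
  intro h
  have h1 : cje ⟨0, 1⟩ = ⟨0, 1⟩ := by rw [h]; rfl
  exact absurd h1 (by decide +kernel)

/-- every automorphism of the field is trivial or the conjugation -/
theorem field_aut (ρ : FQ ≃+* FQ) : ρ = 1 ∨ ρ = cje := by
  have h1 : Nat.card (FQ ≃+* FQ) = 2 := by
    haveI : Fact (Nat.Prime 5) := ⟨by norm_num⟩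
    exact Cfsg.Agent.Lib.FieldAutCard.card_ringAut (p := 5) (by norm_num) card_sq
  have h2 : ρ ^ 2 = 1 := by rw [← h1]; exact pow_card_eq_one'
  have hfin : Finite (FQ ≃+* FQ) := Nat.finite_of_card_ne_zero (by rw [h1]; norm_num)
  by_contra hc
  push Not at hc
  have h3 : ({1, cje, ρ} : Finset (FQ ≃+* FQ)).card = 3 := by
    classical
    rw [Finset.card_insert_of_notMem, Finset.card_pair]
    · exact hc.2.symm
    · simp only [Finset.mem_insert, Finset.mem_singleton, not_or]
      exact ⟨cje_ne.symm, hc.1.symm⟩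
  have h4 : ({1, cje, ρ} : Finset (FQ ≃+* FQ)).card ≤ Nat.card (FQ ≃+* FQ) := by
    letI := Fintype.ofFinite (FQ ≃+* FQ)
    rw [Nat.card_eq_fintype_card]
    exact Finset.card_le_univ _
  omega

/-- the linear automorphisms -/
abbrev lin : GU4 →* MulAut U4 := f₁

/-- the field automorphism of `PSU₄(5)` -/
def phi : MulAut U4 := f₂ cje

theorem phi_sq : phi * phi = 1 := by
  rw [phi, ← map_mul, cje_mul, map_one]

theorem phi_conj (A : GU4) : phi * lin A * phi⁻¹ = lin (mapGU cje A) := conj_field cje A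

theorem exists_lin (α : MulAut U4) : ∃ A : GU4, α = lin A ∨ α = lin A * phi := by
  obtain ⟨A, ρ, h⟩ := Cfsg.Agent.ClassicalGeometry.PSUAutMain.exists_toAut card_sq (by norm_num) (by norm_num) α
  refine ⟨A, ?_⟩
  rw [toAut_eq] at h
  rcases field_aut ρ with rfl | rfl
  · left; rw [h, map_one, mul_one]
  · right; exact h

theorem lin_eq_one {A : GU4} (h : lin A = 1) : ∃ c : FQ, gm A = c • (1 : M4) := by
  have h1 : toAut A 1 = toAut (1 : GU4) 1 := by
    rw [toAut_eq, toAut_eq]
    change lin A * _ = lin 1 * _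
    rw [h, map_one, map_one]
  obtain ⟨-, c, hc, h2⟩ := eq_of_toAut_eq card_sq (by norm_num) h1
  rw [gm_one] at h2
  have hc0 : c ≠ 0 := by
    rintro rfl
    rw [zero_mul] at hc
    exact zero_ne_one hc
  exact ⟨c⁻¹, by rw [h2, smul_smul, inv_mul_cancel₀ hc0, one_smul]⟩

theorem lin_one_of_smul {A : GU4} {c : FQ} (h : gm A = c • (1 : M4)) : lin A = 1 := by
  ext x
  obtain ⟨g, rfl⟩ := QuotientGroup.mk_surjective x
  change pr (semiConj A 1 g) = pr g
  congr 1
  apply mat_inj
  have h1 : mat (semiConj A 1 g) = gm A * mat g * gm A⁻¹ := rfl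
  rw [h1, h, Matrix.smul_mul, Matrix.one_mul, Matrix.smul_mul, ← Matrix.mul_smul]
  have h2 := gm_mul_inv A
  rw [h, Matrix.smul_mul, Matrix.one_mul] at h2
  rw [h2, Matrix.mul_one]

theorem lin_ne_phi (A : GU4) : lin A ≠ phi := by
  intro h
  have h1 : toAut A 1 = toAut (1 : GU4) cje := by
    rw [toAut_eq, toAut_eq, map_one, map_one, mul_one, one_mul]
    exact h
  obtain ⟨h2, -⟩ := eq_of_toAut_eq card_sq (by norm_num) h1
  exact cje_ne h2

/-- the square of an automorphism in the nonlinear coset -/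
theorem sq_phi (A : GU4) : (lin A * phi) ^ 2 = lin (A * mapGU cje A) := by
  have h : phi⁻¹ = phi := inv_eq_of_mul_eq_one_left phi_sq
  rw [map_mul, ← phi_conj, pow_two, h]
  simp only [mul_assoc]

/-- inner automorphisms -/
theorem lin_eq_conj (A : GU4) (g : SU4) (h : gm A = mat g) : lin A = MulAut.conj (pr g) := f₁_eq_conj A g h

end Cfsg.Agent.H380.UF
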