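import Cfsg.Agent.H380.UF.Elts
import Cfsg.Agent.H421.Act

/-!
# Modules for `PSU₄(5)` in characteristic prime to 5: `5⁴:13` (helper380)

`eq_zero_of_thirteen` : if `PSU₄(5)` acts on an abelian group `V` without 5-torsion and the elements of order 13 have
no nonzero fixed vectors then `V = 0`.
-/

set_option autoImplicit false

namespace Cfsg.Agent.H380.UF

open Matrix Cfsg.Agent.H422.Recur

theorem pr_eq_of_smul {a b : SU4} {r : FQ} (h : mat a = r • mat b) : pr a = pr b := by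
  refine ((QuotientGroup.eq).2 (mem_center (r := r) ?_)).symm
  rw [mat_mul, h, Matrix.mul_smul, ← mat_mul, inv_mul_cancel, mat_one]

theorem pr_eq_of_mat {a b : SU4} (h : mat a = mat b) : pr a = pr b := by rw [mat_inj h]

/-- a nontrivial element acts trivially: everything acts trivially -/
theorem trivial_of {V : Type*} [AddCommGroup V] (ρ : U4 →* AddMonoid.End V) {n : U4} (hn : n ≠ 1)
    (h : ∀ v : V, ρ n v = v) (g : U4) (v : V) : ρ g v = v := by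
  have h1 : n ∈ ρ.ker := by
    rw [MonoidHom.mem_ker]
    exact AddMonoidHom.ext h
  rcases simple_U.eq_bot_or_eq_top_of_normal ρ.ker inferInstance with h2 | h2
  · rw [h2] at h1
    exact absurd (Subgroup.mem_bot.1 h1) hn
  · have : g ∈ ρ.ker := by rw [h2]; exact Subgroup.mem_top _
    exact DFunLike.congr_fun (MonoidHom.mem_ker.1 this) v

abbrev A5 := ZMod 5 × ZMod 5 × ZMod 5 × ZMod 5

theorem cst_add : ∀ r s : ZMod 5, cst (r + s) = cst r + cst s := by decide +kernel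

def B1 : M4 := !![⟨0, 1⟩, ⟨3, 1⟩, ⟨0, 0⟩, ⟨0, 0⟩; ⟨2, 1⟩, ⟨0, 4⟩, ⟨0, 0⟩, ⟨0, 0⟩; ⟨0, 0⟩, ⟨0, 0⟩, ⟨0, 0⟩, ⟨0, 0⟩; ⟨0, 0⟩, ⟨0, 0⟩, ⟨0, 0⟩, ⟨0, 0⟩]
def B2 : M4 := !![⟨0, 0⟩, ⟨0, 0⟩, ⟨0, 0⟩, ⟨0, 0⟩; ⟨0, 0⟩, ⟨0, 0⟩, ⟨0, 0⟩, ⟨0, 0⟩; ⟨0, 0⟩, ⟨0, 0⟩, ⟨0, 1⟩, ⟨3, 1⟩; ⟨0, 0⟩, ⟨0, 0⟩, ⟨2, 1⟩, ⟨0, 4⟩]
def B3 : M4 := !![⟨0, 0⟩, ⟨0, 0⟩, ⟨1, 0⟩, ⟨1, 4⟩; ⟨0, 0⟩, ⟨0, 0⟩, ⟨1, 1⟩, ⟨4, 0⟩; ⟨4, 0⟩, ⟨4, 1⟩, ⟨0, 0⟩, ⟨0, 0⟩; ⟨4, 4⟩, ⟨1, 0⟩, ⟨0, 0⟩, ⟨0, 0⟩]
def B4 : M4 := !![⟨0, 0⟩, ⟨0, 0⟩, ⟨0, 1⟩, ⟨3, 1⟩; ⟨0, 0⟩, ⟨0, 0⟩, ⟨2, 1⟩, ⟨0, 4⟩; ⟨0, 1⟩, ⟨3, 1⟩, ⟨0, 0⟩, ⟨0, 0⟩; ⟨2, 1⟩, ⟨0, 4⟩, ⟨0, 0⟩, ⟨0, 0⟩]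
def e13 : M4 := !![⟨2, 2⟩, ⟨2, 0⟩, ⟨4, 0⟩, ⟨0, 0⟩; ⟨1, 4⟩, ⟨2, 2⟩, ⟨0, 0⟩, ⟨4, 0⟩; ⟨1, 0⟩, ⟨0, 0⟩, ⟨2, 3⟩, ⟨1, 1⟩; ⟨0, 0⟩, ⟨1, 0⟩, ⟨2, 0⟩, ⟨2, 3⟩]
def e13_2 : M4 := !![⟨3, 1⟩, ⟨3, 3⟩, ⟨1, 0⟩, ⟨2, 4⟩; ⟨1, 0⟩, ⟨3, 1⟩, ⟨2, 1⟩, ⟨1, 0⟩; ⟨4, 0⟩, ⟨3, 1⟩, ⟨3, 4⟩, ⟨1, 0⟩; ⟨3, 4⟩, ⟨4, 0⟩, ⟨3, 2⟩, ⟨3, 4⟩]
def e13_3 : M4 := !![⟨3, 3⟩, ⟨1, 3⟩, ⟨3, 0⟩, ⟨1, 2⟩; ⟨0, 1⟩, ⟨3, 3⟩, ⟨1, 3⟩, ⟨3, 0⟩; ⟨2, 0⟩, ⟨4, 3⟩, ⟨3, 2⟩, ⟨0, 4⟩; ⟨4, 2⟩, ⟨2, 0⟩, ⟨1, 2⟩, ⟨3, 2⟩]

def N5 (v : A5) : M4 := cst v.1 • B1 + cst v.2.1 • B2 + cst v.2.2.1 • B3 + cst v.2.2.2 • B4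

theorem N5_add (v w : A5) : N5 (v + w) = N5 v + N5 w := by
  rw [N5, N5, N5]
  simp only [Prod.fst_add, Prod.snd_add, cst_add, add_smul]
  abel

theorem B11 : B1 * B1 = 0 := by decide +kernel
theorem B12 : B1 * B2 = 0 := by decide +kernel
theorem B13 : B1 * B3 = 0 := by decide +kernel
theorem B14 : B1 * B4 = 0 := by decide +kernel
theorem B21 : B2 * B1 = 0 := by decide +kernel
theorem B22 : B2 * B2 = 0 := by decide +kernel
theorem B23 : B2 * B3 = 0 := by decide +kernel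
theorem B24 : B2 * B4 = 0 := by decide +kernel
theorem B31 : B3 * B1 = 0 := by decide +kernel
theorem B32 : B3 * B2 = 0 := by decide +kernel
theorem B33 : B3 * B3 = 0 := by decide +kernel
theorem B34 : B3 * B4 = 0 := by decide +kernel
theorem B41 : B4 * B1 = 0 := by decide +kernel
theorem B42 : B4 * B2 = 0 := by decide +kernel
theorem B43 : B4 * B3 = 0 := by decide +kernel
theorem B44 : B4 * B4 = 0 := by decide +kernel

theorem N5_mul (v w : A5) : N5 v * N5 w = 0 := by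
  rw [N5, N5]
  simp only [add_mul, mul_add, smul_mul_smul_comm, B11, B12, B13, B14, B21, B22, B23, B24, B31, B32, B33,
    B34, B41, B42, B43, B44, smul_zero, add_zero]

theorem B1t : B1ᵀ = -B1.map cj := by decide +kernel
theorem B2t : B2ᵀ = -B2.map cj := by decide +kernel
theorem B3t : B3ᵀ = -B3.map cj := by decide +kernel
theorem B4t : B4ᵀ = -B4.map cj := by decide +kernel

theorem cj_cst (r : ZMod 5) : cj (cst r) = cst r := by
  have : ∀ r : Fin 5, cj (cst r) = cst r := by decide +kernel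
  exact this r

theorem map_smul_cst (r : ZMod 5) (B : M4) : (cst r • B).map cj = cst r • B.map cj := by
  refine Matrix.ext fun i j => ?_
  simp only [Matrix.map_apply, Matrix.smul_apply, smul_eq_mul, map_mul, cj_cst]

theorem map_add' (A B : M4) : (A + B).map cj = A.map cj + B.map cj := by
  refine Matrix.ext fun i j => ?_
  simp only [Matrix.map_apply, Matrix.add_apply, map_add]

theorem map_mul' (A B : M4) : (A * B).map cj = A.map cj * B.map cj := Matrix.map_mul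

theorem N5_transpose (v : A5) : (N5 v)ᵀ = -(N5 v).map cj := by
  rw [N5, map_add', map_add', map_add', map_smul_cst, map_smul_cst, map_smul_cst, map_smul_cst]
  simp only [Matrix.transpose_add, Matrix.transpose_smul, B1t, B2t, B3t, B4t, smul_neg]
  abel

theorem N5_unit (v : A5) : (1 + N5 v)ᵀ * (1 + N5 v).map cj = 1 := by
  have h0 : (N5 v).map cj * (N5 v).map cj = 0 := by
    rw [← map_mul', N5_mul]
    refine Matrix.ext fun i j => ?_
    simp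
  have h1 : (1 : M4).map cj = 1 := Matrix.map_one cj (map_zero cj) (map_one cj)
  rw [map_add', h1, Matrix.transpose_add, Matrix.transpose_one, N5_transpose, add_mul, mul_add, one_mul, neg_mul,
    mul_add, h0]
  simp

theorem five_smul (B : M4) : (5 : ℕ) • B = 0 := by
  refine Matrix.ext fun i j => ?_
  rw [Matrix.smul_apply]
  have : ∀ x : FQ, (5 : ℕ) • x = 0 := by decide +kernel
  exact this _

theorem N5_pow (v : A5) (n : ℕ) : (1 + N5 v) ^ n = 1 + n • N5 v := by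
  induction n with
  | zero => simp
  | succ n ih =>
    rw [pow_succ, ih, add_mul, mul_add, mul_add, one_mul, one_mul, mul_one, smul_mul_assoc, N5_mul, smul_zero,
      add_zero, succ_nsmul]
    abel

theorem N5_det (v : A5) : (1 + N5 v).det = 1 := by
  have h1 : (1 + N5 v).det ^ 5 = 1 := by
    rw [← det_pow, N5_pow, five_smul, add_zero, det_one]
  have h2 := det_norm (N5_unit v)
  have : ∀ x : FQ, x ^ 5 = 1 → x * cj x = 1 → x = 1 := by decide +kernel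
  exact this _ h1 h2

/-- the action of the element of order 13 -/
def act5 (v : A5) : A5 :=
  (4 * v.1 + v.2.1 + 2 * v.2.2.1 + 2 * v.2.2.2, v.1, 3 * v.1 + v.2.2.1, 4 * v.1 + 4 * v.2.2.2)

theorem act5_fix : ∀ v : A5, act5 v = v → v = 0 := by decide +kernel

theorem cst_mul : ∀ r s : ZMod 5, cst (r * s) = cst r * cst s := by decide +kernel
theorem cst_one : cst (1 : ZMod 5) = 1 := by decide +kernel

theorem conj1 : e13 * B1 = (cst (4 : ZMod 5) • B1 + cst (1 : ZMod 5) • B2 + cst (3 : ZMod 5) • B3 + cst (4 : ZMod 5) • B4) * e13 := by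
  decide +kernel
theorem conj2 : e13 * B2 = (cst (1 : ZMod 5) • B1) * e13 := by decide +kernel
theorem conj3 : e13 * B3 = (cst (2 : ZMod 5) • B1 + cst (1 : ZMod 5) • B3) * e13 := by decide +kernel
theorem conj4 : e13 * B4 = (cst (2 : ZMod 5) • B1 + cst (4 : ZMod 5) • B4) * e13 := by decide +kernel

theorem act5_conj (v : A5) : e13 * N5 v = N5 (act5 v) * e13 := by
  have h : e13 * N5 v = cst v.1 • (e13 * B1) + cst v.2.1 • (e13 * B2) + cst v.2.2.1 • (e13 * B3) +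
      cst v.2.2.2 • (e13 * B4) := by
    rw [N5]; simp only [mul_add, Matrix.mul_smul]
  rw [h, conj1, conj2, conj3, conj4, N5, act5]
  simp only [← Matrix.smul_mul, ← add_mul]
  congr 1
  simp only [cst_add, cst_mul, cst_one]
  module

def g13 : SU4 := mk e13 (by decide +kernel) (by decide +kernel)

theorem pf13 : Nat.primeFactors 13 = {13} := by decide +kernel

theorem order_13 : orderOf (pr g13) = 13 := by
  refine order_pr (a := ⟨3, 0⟩) (b := ⟨4, 0⟩) (c := ⟨3, 0⟩) (d := ⟨4, 0⟩) (M2 := e13_2) (M3 := e13_3)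
    (by decide +kernel) (by decide +kernel) (by decide +kernel) (by norm_num) (by decide +kernel) ?_
  rw [pf13]; decide +kernel

/-- elements of the unipotent radical -/
def u5 (v : A5) : SU4 := mk (1 + N5 v) (N5_unit v) (N5_det v)

/-- the homomorphism from `5⁴` -/
def f5 : Multiplicative A5 →* U4 where
  toFun v := pr (u5 v.toAdd)
  map_one' := by
    refine (QuotientGroup.eq_one_iff _).2 (mem_center (r := 1) ?_)
    change 1 + N5 0 = (1 : FQ) • (1 : M4)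
    have h : N5 0 = 0 := by
      have := N5_add 0 0
      rw [add_zero] at this
      exact left_eq_add.1 this
    rw [h, add_zero, one_smul]
  map_mul' v w := by
    rw [← map_mul]
    apply pr_eq_of_mat
    change 1 + N5 (v.toAdd + w.toAdd) = (1 + N5 v.toAdd) * (1 + N5 w.toAdd)
    rw [add_mul, mul_add (N5 v.toAdd), N5_mul, N5_add, mul_one, one_mul, add_zero]
    abel

theorem N5_inj {v w : A5} (h : N5 v = N5 w) : v = w := by
  have h1 := congrFun (congrFun h 0) 1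
  have h2 := congrFun (congrFun h 2) 3
  have h3 := congrFun (congrFun h 0) 2
  obtain ⟨a, b, c, d⟩ := v
  obtain ⟨a', b', c', d'⟩ := w
  have e1 : ∀ a b c d : ZMod 5, N5 (a, b, c, d) 0 1 = cst a * ⟨3, 1⟩ := by
    intro a b c d
    simp only [N5, Matrix.add_apply, Matrix.smul_apply, smul_eq_mul]
    rw [show B1 0 1 = ⟨3, 1⟩ from rfl, show B2 0 1 = 0 from rfl, show B3 0 1 = 0 from rfl, show B4 0 1 = 0 from rfl]
    ring
  have e2 : ∀ a b c d : ZMod 5, N5 (a, b, c, d) 2 3 = cst b * ⟨3, 1⟩ := by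
    intro a b c d
    simp only [N5, Matrix.add_apply, Matrix.smul_apply, smul_eq_mul]
    rw [show B1 2 3 = 0 from rfl, show B2 2 3 = ⟨3, 1⟩ from rfl, show B3 2 3 = 0 from rfl, show B4 2 3 = 0 from rfl]
    ring
  have e3 : ∀ a b c d : ZMod 5, N5 (a, b, c, d) 0 2 = cst c + cst d * ⟨0, 1⟩ := by
    intro a b c d
    simp only [N5, Matrix.add_apply, Matrix.smul_apply, smul_eq_mul]
    rw [show B1 0 2 = 0 from rfl, show B2 0 2 = 0 from rfl, show B3 0 2 = 1 from rfl, show B4 0 2 = ⟨0, 1⟩ from rfl]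
    ring
  rw [e1, e1] at h1
  rw [e2, e2] at h2
  rw [e3, e3] at h3
  have k1 : ∀ a b : Fin 5, cst a * ⟨3, 1⟩ = cst b * ⟨3, 1⟩ → a = b := by decide +kernel
  have k3 : ∀ a b c d : Fin 5, cst a + cst b * ⟨0, 1⟩ = cst c + cst d * ⟨0, 1⟩ → a = c ∧ b = d := by decide +kernel
  obtain ⟨rfl, rfl⟩ := k3 _ _ _ _ h3
  obtain rfl := k1 _ _ h1
  obtain rfl := k1 _ _ h2
  rfl

theorem f5_inj {v : Multiplicative A5} (h : f5 v = 1) : v = 1 := by
  obtain ⟨c, hc⟩ := pr_scalar h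
  have h1 : mat (u5 v.toAdd) = 1 + N5 v.toAdd := rfl
  rw [h1] at hc
  have h2 : (1 + N5 v.toAdd) ^ 2 = c • (1 + N5 v.toAdd) := by
    conv_lhs => rw [pow_two]
    nth_rw 1 [hc]
    rw [smul_mul_assoc, one_mul]
  rw [N5_pow] at h2
  -- trace zero of `N5`
  have h3 : N5 v.toAdd = (c - 1) • (1 : M4) := by
    rw [sub_smul, one_smul, ← hc]; abel
  have h4 := N5_mul v.toAdd v.toAdd
  rw [h3, smul_mul_smul_comm, one_mul] at h4
  have h5 : (c - 1) * (c - 1) = 0 := by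
    have := congrFun (congrFun h4 0) 0
    simpa using this
  have h6 : c - 1 = 0 := mul_self_eq_zero.1 h5
  rw [h6, zero_smul] at h3
  have h7 : N5 0 = 0 := by
    have := N5_add 0 0
    rw [add_zero] at this
    exact left_eq_add.1 this
  exact congrArg Multiplicative.ofAdd (N5_inj (h3.trans h7.symm))

theorem f5_conj (v : Multiplicative A5) :
    pr g13 * f5 v * (pr g13)⁻¹ = f5 (Multiplicative.ofAdd (act5 v.toAdd)) := by
  rw [mul_inv_eq_iff_eq_mul]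
  change pr g13 * pr (u5 v.toAdd) = pr (u5 (act5 v.toAdd)) * pr g13
  rw [← map_mul, ← map_mul]
  apply pr_eq_of_mat
  change e13 * (1 + N5 v.toAdd) = (1 + N5 (act5 v.toAdd)) * e13
  rw [mul_add, add_mul, act5_conj, mul_one, one_mul]

/-- **modules without 5-torsion for which the elements of order 13 have no fixed vectors** -/
theorem eq_zero_of_thirteen {V : Type*} [AddCommGroup V] (ρ : U4 →* AddMonoid.End V)
    (h5 : ∀ v : V, 5 • v = 0 → v = 0) (h13 : ∀ v : V, ρ (pr g13) v = v → v = 0) (v : V) : v = 0 := by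
  have hcard : Nat.card f5.range ∣ 5 ^ 4 := by
    have h1 := Subgroup.card_range_dvd f5
    have h2 : Nat.card (Multiplicative A5) = 5 ^ 4 := by
      rw [Nat.card_congr Multiplicative.toAdd, Nat.card_prod, Nat.card_prod, Nat.card_prod, Nat.card_zmod]
      norm_num
    rwa [h2] at h1
  have key : ∀ a ∈ f5.range, ∀ v, ρ a v = v := by
    refine Cfsg.Agent.H421.Act.frob_trivial ρ f5.range (pr g13) 13 (by norm_num) ?_ ?_ ?_ h13 ?_
    · rw [← order_13]; exact pow_orderOf_eq_one _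
    · rintro _ ⟨a, rfl⟩
      exact ⟨_, (f5_conj a).symm⟩
    · rintro i hi hi13 _ ⟨a, rfl⟩ hc
      -- `z` is a power of `z ^ i`
      obtain ⟨k, hk⟩ : ∃ k : ℕ, ((pr g13) ^ i) ^ k = pr g13 := by
        have hcop : Nat.Coprime i 13 := by
          rw [Nat.coprime_comm, Nat.Prime.coprime_iff_not_dvd (by norm_num)]
          exact fun h => absurd (Nat.le_of_dvd hi h) (by omega)
        obtain ⟨k, -, hk⟩ := Nat.exists_mul_mod_eq_one_of_coprime hcop (by norm_num)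
        refine ⟨k, ?_⟩
        rw [← pow_mul, ← Nat.div_add_mod (i * k) 13, pow_add, pow_mul, ← order_13, pow_orderOf_eq_one, one_pow,
          one_mul, order_13, hk, pow_one]
      have h1 : Commute ((pr g13) ^ i) (f5 a) := hc
      have h2 : Commute (pr g13) (f5 a) := by
        rw [← hk]; exact h1.pow_left k
      have h3 : pr g13 * f5 a * (pr g13)⁻¹ = f5 a := by
        rw [h2.eq, mul_inv_cancel_right]
      rw [f5_conj] at h3
      have h4 : f5 ((Multiplicative.ofAdd (act5 a.toAdd)) * a⁻¹) = 1 := by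
        rw [map_mul, h3, map_inv, mul_inv_cancel]
      have h5 := mul_inv_eq_one.1 (f5_inj h4)
      have h6 : a = 1 := congrArg Multiplicative.ofAdd (act5_fix a.toAdd (congrArg Multiplicative.toAdd h5))
      rw [h6, map_one]
    · intro w hw
      obtain ⟨c, hc⟩ := hcard
      have h1 : 5 ^ 4 • w = 0 := by rw [hc, mul_comm, mul_smul, hw, smul_zero]
      have e : ∀ u : V, 5 • u = 0 → u = 0 := h5
      apply e; apply e; apply e; apply e
      rw [← mul_smul, ← mul_smul, ← mul_smul]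
      exact h1
  refine h13 v (trivial_of ρ (n := f5 (Multiplicative.ofAdd (1, 0, 0, 0))) ?_ (key _ ⟨_, rfl⟩) _ v)
  intro h
  have := congrArg Multiplicative.toAdd (f5_inj h)
  exact absurd this (by decide)

end Cfsg.Agent.H380.UF
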